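import Cfsg.Agent.H23.Three.Star
import Cfsg.Agent.H23.Covering
import Cfsg.Agent.H23.DefectPair
import Cfsg.Agent.H19.AbelianLocal
import Cfsg.Agent.H22.Subsections
import Cfsg.Agent.H24.DerivedLength

/-!
The centraliser block below a block with normal abelian defect group, and the members trivial on the
defect group.
-/

set_option autoImplicit false
set_option linter.unusedSectionVars false
set_option linter.style.haveILetI false

open Cfsg Finset
open scoped ComplexConjugate MonoidAlgebra

namespace H23.Three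

universe u

variable {M : Ideal AlgInt} [hMp : M.IsPrime] {G : Type u} [Group G] [Fintype G]
  {p : ℕ} [hp : Fact p.Prime]

/-- Membership in a block depends only on the values at regular elements. -/
theorem mem_of_regular_eq (hM : IsPModular p M) {c : Set (IrrCharacter G)} (hc : IsPBlock M c)
    {θ η : IrrCharacter G} (hθ : θ ∈ c)
    (h : ∀ y : G, ¬ p ∣ orderOf y → (η : G → ℂ) y = (θ : G → ℂ) y) : η ∈ c := by
  classical
  haveI := Fintype.ofFinite (ConjClasses G)
  have h1 : H20.lam M η (H20.eRed M c) = H20.lam M θ (H20.eRed M c) := by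
    rw [H20.lam_eq_sum, H20.lam_eq_sum]
    refine Finset.sum_congr rfl fun K _ => ?_
    by_cases hK : (H20.eRed M c).coeff K.out = 0
    · rw [hK, zero_mul, zero_mul]
    · rw [centralChar, centralChar, h _ (H20.regular_of_coeff_ne_zero hM hc hK),
        h 1 (by rw [orderOf_one]; exact hp.out.not_dvd_one)]
  by_contra hne
  rw [H20.lam_eRed hc, H20.lam_eRed hc, if_neg hne, if_pos hθ] at h1
  exact zero_ne_one h1

/-- The block of the centraliser, with its member trivial on the defect group. -/
structure Below (M : Ideal AlgInt) [M.IsPrime] (p : ℕ) (B : Set (IrrCharacter G))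
    (D : Subgroup G) [D.Normal] [Fintype (Subgroup.centralizer (D : Set G))] where
  c : Set (IrrCharacter (Subgroup.centralizer (D : Set G)))
  blk : IsPBlock M c
  θ : IrrCharacter (Subgroup.centralizer (D : Set G))
  mem : θ ∈ c
  ker : ∀ z : Subgroup.centralizer (D : Set G), (z : G) ∈ D →
    (θ : Subgroup.centralizer (D : Set G) → ℂ) z = (θ : Subgroup.centralizer (D : Set G) → ℂ) 1
  deg : (charDegree (θ : Subgroup.centralizer (D : Set G) → ℂ)).factorization p +
      (Nat.card D).factorization p =
    (Nat.card (Subgroup.centralizer (D : Set G))).factorization p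
  uniq : ∀ η ∈ c, (∀ z : Subgroup.centralizer (D : Set G), (z : G) ∈ D →
    (η : Subgroup.centralizer (D : Set G) → ℂ) z = (η : Subgroup.centralizer (D : Set G) → ℂ) 1) →
      η = θ
  mem_block : ∀ χ : IrrCharacter G, ∀ η ∈ c,
    classInner (fun x : Subgroup.centralizer (D : Set G) => (χ : G → ℂ) x)
      (η : Subgroup.centralizer (D : Set G) → ℂ) ≠ 0 → χ ∈ B
  over_of_trivial : ∀ χ ∈ B, (∀ u ∈ D, (χ : G → ℂ) u = (χ : G → ℂ) 1) →
    classInner (fun x : Subgroup.centralizer (D : Set G) => (χ : G → ℂ) x)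
      (θ : Subgroup.centralizer (D : Set G) → ℂ) ≠ 0

theorem exists_below (hM : IsPModular p M) {B : Set (IrrCharacter G)} (hB : IsPBlock M B)
    {D : Subgroup G} [D.Normal] [Fintype (Subgroup.centralizer (D : Set G))]
    (hD : IsDefectGroup p M B D) (hab : ∀ a ∈ D, ∀ b ∈ D, a * b = b * a) :
    Nonempty (Below M p B D) := by
  classical
  haveI := H20.k_charP (p := p) hM
  haveI := H23.isAlgClosed_k hM.2.1
  obtain ⟨f₀, hmax⟩ := H23.exists_maxPair_defect (p := p) hB hM hD
  obtain ⟨c, hc, rfl⟩ := H23.exists_of_isPair hmax.1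
  have hDC : D ≤ (Subgroup.centralizer (D : Set G)) := H19.AbelianLocal.le_centralizer hab
  have hDp : IsPGroup p D := hmax.1.1
  -- the defect of `c`
  haveI : ∀ R : Subgroup (Subgroup.centralizer (D : Set G)), Fintype R := fun R => Fintype.ofFinite R
  obtain ⟨f, hf⟩ := H19.AbelianLocal.exists_inducedIn hM hDp hab le_rfl hc.2
  have hle := H19.AbelianLocal.le_of_inducedIn hM hDp hab le_rfl hf
  obtain rfl : f = c := H23.eG_injective hf.2.1 hc.2 (congrArg Prod.snd (hle.eq_of_eq p rfl))
  have hdc := H19.AbelianLocal.isDefectGroup_local hM hB hab hmax le_rfl hf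
  set Z := D.subgroupOf (Subgroup.centralizer (D : Set G)) with hZ
  have hZc : Z ≤ Subgroup.center (Subgroup.centralizer (D : Set G)) := fun z hz =>
    Subgroup.mem_center_iff.2 fun x => Subtype.ext (x.2 (z : G) hz).symm
  have hZp : IsPGroup p Z := hDp.comap_of_injective (Subgroup.centralizer (D : Set G)).subtype (Subgroup.centralizer (D : Set G)).subtype_injective
  have hZD : Nat.card Z = Nat.card D := Nat.card_congr (Subgroup.subgroupOfEquivOfLe hDC).toEquiv
  have hd : blockDefect p f = (Nat.card Z).factorization p := by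
    rw [H22.card_isDefectGroup hM hc.2 hdc, hp.out.factorization_pow, Finsupp.single_eq_same]
  obtain ⟨θ, hθ, hker, hdeg⟩ := (H19.CentralDefect.blockDefect_eq_iff hM hc.2 Z hZc hZp).1 hd
  -- `B` covers `c`
  have hcov : H23.eB M B * H23.eG M (Subgroup.centralizer (D : Set G)) f ≠ 0 := by
    intro h0
    apply hmax.1.2.ne_zero
    have hfixE : H23.IsFix D (H23.eB M B) := (H23.cidem_eB hB).fix.mono le_top
    have hfixc : H23.IsFix D (H23.eG M (Subgroup.centralizer (D : Set G)) f) := (H23.cidem_eG (M := M) hc.2).fix.mono hDC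
    calc H23.eG M (Subgroup.centralizer (D : Set G)) f = H23.eG M (Subgroup.centralizer (D : Set G)) f * H23.Br D (H23.eB M B) := hmax.2.1.symm
      _ = H23.Br D (H23.eG M (Subgroup.centralizer (D : Set G)) f) * H23.Br D (H23.eB M B) := by
          rw [H23.Br_eq_self (H23.supp_eG (Subgroup.centralizer (D : Set G)) f)]
      _ = H23.Br D (H23.eG M (Subgroup.centralizer (D : Set G)) f * H23.eB M B) := (H23.Br_mul hDp hfixc hfixE).symm
      _ = 0 := by
          rw [H23.CIdem.comm (H23.cidem_eB hB).fix (H23.cidem_eB hB).supp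
            (H23.supp_top (H23.eG M (Subgroup.centralizer (D : Set G)) f)) |>.symm, h0]
          simp [H23.Br]
  obtain ⟨χ₀, hχ₀, θ₀, hθ₀, hne₀⟩ := (H23.covers_iff_mul_ne_zero hB hc.2).2 hcov
  have hmem : ∀ χ : IrrCharacter G, ∀ η ∈ f,
      classInner (fun x : (Subgroup.centralizer (D : Set G)) => (χ : G → ℂ) x) (η : (Subgroup.centralizer (D : Set G)) → ℂ) ≠ 0 → χ ∈ B := by
    intro χ η hη hne
    refine (H20.mem_block_iff hB hχ₀ χ).2 ((H20.sameBlock_iff χ₀ χ).2 fun g => ?_)
    by_cases hg : g ∈ (Subgroup.centralizer (D : Set G))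
    · have hcl := H20.isCl_clSum (H20.k M) g
      have hs : H23.Supp (Subgroup.centralizer (D : Set G)) (H20.clSum (H20.k M) g) := by
        intro x hx
        rw [H20.coeff_clSum, if_neg]
        intro hgx
        obtain ⟨y, rfl⟩ := isConj_iff.1 hgx
        exact hx ((inferInstance : (Subgroup.centralizer (D : Set G)).Normal).conj_mem g hg y)
      rw [H23.lam_eq_constituent hs (fun x _ y => hcl y x) χ₀ θ₀ hne₀,
        H23.lam_eq_constituent hs (fun x _ y => hcl y x) χ η hne,
        H20.lam_eq_of_sameBlock (H20.sameBlock_of_mem hc.2 hθ₀ hη)]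
    · have h0 : ∀ φ : IrrCharacter G, H20.lam M φ (H20.clSum (H20.k M) g) = 0 := fun φ => by
        by_contra h
        exact hg (H20.mem_centralizer_of_lam_ne_zero hM hDp h)
      rw [h0, h0]
  have huniq : ∀ η ∈ f, (∀ z : (Subgroup.centralizer (D : Set G)), (z : G) ∈ D → (η : (Subgroup.centralizer (D : Set G)) → ℂ) z = (η : (Subgroup.centralizer (D : Set G)) → ℂ) 1) → η = θ :=
    fun η hη h => eq_of_trivial_central hM hc.2 Z hZc hZp hd hθ hη hker (fun z hz => h z hz) hdeg
  refine ⟨⟨f, hc.2, θ, hθ, fun z hz => hker z hz, by rw [← hZD]; exact hdeg, huniq, hmem, ?_⟩⟩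
  intro χ hχ htriv
  have hf' := H23.isBlk_eG (M := M) hc.2
  set W := H23.orbSum (⊤ : Subgroup G) (H23.eG M (Subgroup.centralizer (D : Set G)) f) with hW
  have hWi : H23.CIdem ⊤ W := H23.cidem_orbSum le_top hf'
  have h0 : H20.lam M χ W = 1 := by
    rw [H20.lam_eq_of_sameBlock (H20.sameBlock_of_mem hB hχ hχ₀),
      H23.lam_eq_constituent (H23.supp_orbSum hf') hWi.fix χ₀ θ₀ hne₀]
    exact (H23.lam_orbSum hf' θ₀).2
      ⟨1, trivial, by rw [H23.cj_one]; exact (H23.mem_iff_lam hc.2 θ₀).1 hθ₀⟩
  obtain ⟨η, hη⟩ := H21.exists_constituent (Subgroup.centralizer (D : Set G)) χ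
  rw [H23.lam_eq_constituent (H23.supp_orbSum hf') hWi.fix χ η hη, H23.lam_orbSum hf'] at h0
  obtain ⟨x, -, hx⟩ := h0
  rw [H23.lam_res_cj (H23.cjS_normal (Subgroup.centralizer (D : Set G)) x) (H23.cidem_eG hc.2).fix, ← H23.mem_iff_lam hc.2] at hx
  have heq : H23.pullChar (H23.cjS_normal (Subgroup.centralizer (D : Set G)) x) η = H21.conjChar (Subgroup.centralizer (D : Set G)) x η :=
    Subtype.ext (funext fun n => by
      rw [H23.pullChar_apply, H21.conjChar_apply]
      exact congrArg _ (Subtype.ext (H23.coe_cjEquiv _ n)))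
  rw [heq] at hx
  have hη' : classInner (fun n : (Subgroup.centralizer (D : Set G)) => (χ : G → ℂ) n) (H21.conjChar (Subgroup.centralizer (D : Set G)) x η : (Subgroup.centralizer (D : Set G)) → ℂ) ≠ 0 := by
    rwa [H21.classInner_res_conjChar]
  rw [← huniq _ hx fun z hz => H24.constituent_apply_eq
    (H12.IsCharacter.res (H12.isCharacter_irr χ) (Subgroup.centralizer (D : Set G))) _ hη'
    (show (χ : G → ℂ) z = (χ : G → ℂ) ((1 : (Subgroup.centralizer (D : Set G))) : G) by rw [Subgroup.coe_one]; exact htriv z hz)]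
  exact hη'

open Classical in
/-- There are at least `blockRank` members trivial on a normal abelian `p`-subgroup. -/
theorem blockRank_le_trivial (hM : IsPModular p M) {B : Set (IrrCharacter G)} (hB : IsPBlock M B)
    (D : Subgroup G) [D.Normal] (hDp : IsPGroup p D) (hab : ∀ a ∈ D, ∀ b ∈ D, a * b = b * a) :
    blockRank p B ≤
      Nat.card {χ : IrrCharacter G // χ ∈ B ∧ ∀ u ∈ D, (χ : G → ℂ) u = (χ : G → ℂ) 1} := by
  set U := {χ : IrrCharacter G // χ ∈ B ∧ ∀ u ∈ D, (χ : G → ℂ) u = (χ : G → ℂ) 1}
  haveI : Fintype U := Fintype.ofFinite U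
  let L : H22.Sub.regSpan p B →ₗ[ℂ] (U → ℂ) :=
    { toFun := fun f χ => classInner (f : G → ℂ) (χ.1 : G → ℂ)
      map_add' := fun f g => funext fun χ => H12.classInner_add_left _ _ _
      map_smul' := fun r f => funext fun χ => H12.classInner_smul_left _ _ _ }
  have hinj : Function.Injective L := (injective_iff_map_eq_zero L).2 fun f hf => by
    have hspan := H22.Sub.regSpan_le_irrSpan hM hB f.2
    have hreg := H22.Sub.pRegularPart_of_mem_regSpan f.2
    have hcls := H22.Sub.irrSpan_isClassFunction hspan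
    have hzero : ∀ χ : IrrCharacter G, (∀ u ∈ D, (χ : G → ℂ) u = (χ : G → ℂ) 1) →
        classInner (f : G → ℂ) (χ : G → ℂ) = 0 := by
      intro χ htriv
      by_cases hχ : χ ∈ B
      · exact congrFun hf ⟨χ, hχ, htriv⟩
      · revert hspan
        generalize (f : G → ℂ) = F
        intro hF
        induction hF using Submodule.span_induction with
        | mem x hx =>
          obtain ⟨ψ, hψ, rfl⟩ := hx
          exact H12.classInner_irr_ne fun h => hχ (h ▸ hψ)
        | zero => exact H12.classInner_zero_left _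
        | add x y _ _ hx hy => rw [H12.classInner_add_left, hx, hy, add_zero]
        | smul r x _ hx => rw [H12.classInner_smul_left, hx, mul_zero]
    haveI : Fintype (G ⧸ D) := Fintype.ofFinite _
    let F : G ⧸ D → ℂ := fun q => ∑ g : G, if (g : G ⧸ D) = q then (f : G → ℂ) g else 0
    have hFc : IsClassFunction (G ⧸ D) F := by
      intro q t
      induction t using QuotientGroup.induction_on with
      | H x =>
        refine (Fintype.sum_equiv (MulAut.conj x).toEquiv _ _ fun g => ?_).symm
        have hiff : (((x * g * x⁻¹ : G)) : G ⧸ D) = (x : G ⧸ D) * q * (x : G ⧸ D)⁻¹ ↔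
            (g : G ⧸ D) = q := by simp
        simp only [MulEquiv.toEquiv_eq_coe, EquivLike.coe_coe, MulAut.conj_apply, hiff, hcls g x]
    have hF0 : F = 0 := H12.eq_zero_of_classInner_irr_eq_zero hFc fun φ => by
      have h1 := hzero (H21.inflate D φ) fun u hu => by
        rw [H21.inflate_apply, H21.inflate_apply, (QuotientGroup.eq_one_iff u).2 hu,
          QuotientGroup.mk_one]
      rw [H12.classInner_def, mul_eq_zero] at h1
      have h2 := h1.resolve_left (inv_ne_zero (H12.card_ne_zero' (G := G)))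
      rw [H12.classInner_def, show ∑ q : G ⧸ D, F q * conj ((φ : G ⧸ D → ℂ) q) = 0 from ?_,
        mul_zero]
      rw [← h2]
      simp only [F, Finset.sum_mul, ite_mul, zero_mul]
      rw [Finset.sum_comm]
      refine Finset.sum_congr rfl fun g _ => ?_
      rw [Finset.sum_ite_eq, if_pos (Finset.mem_univ _), H21.inflate_apply]
    refine Subtype.ext (funext fun y => ?_)
    have hy' : (f : G → ℂ) y = if p ∣ orderOf y then 0 else (f : G → ℂ) y := by
      conv_lhs => rw [← hreg, H22.pRegularPart_apply]
    by_cases hy : p ∣ orderOf y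
    · rw [hy', if_pos hy]; rfl
    · have h1 := congrFun hF0 (y : G ⧸ D)
      simp only [F, Pi.zero_apply] at h1
      rw [← Finset.sum_filter, ← Finset.sum_filter_add_sum_filter_not _ (fun g => p ∣ orderOf g),
        Finset.sum_eq_zero (fun g hg => by
          rw [← hreg, H22.pRegularPart_apply, if_pos (Finset.mem_filter.1 hg).2]), zero_add,
        Finset.sum_congr rfl (g := fun _ => (f : G → ℂ) y) (fun g hg => by
          simp only [Finset.mem_filter, Finset.mem_univ, true_and] at hg
          exact H12.IsClassFunction.of_isConj hcls (isConj_of_mk_eq hDp hab hg.2 hy hg.1.symm)),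
        Finset.sum_const, nsmul_eq_mul] at h1
      refine (mul_eq_zero.1 h1).resolve_left (Nat.cast_ne_zero.2 (Finset.card_ne_zero.2 ⟨y, ?_⟩))
      simp [hy]
  have h := LinearMap.finrank_le_finrank_of_injective hinj
  rw [Module.finrank_pi, ← Nat.card_eq_fintype_card] at h
  exact h

end H23.Three
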