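import Cfsg.Agent.H23.Three.Two
import Cfsg.Agent.H23.Three.Linear
import Cfsg.Agent.H43.Primitive
import Cfsg.Agent.H33.TwoPrime

/-!
No group acts transitively on the nonidentity elements of an elementary abelian group of rank at
least two with exactly two characters over an invariant character of the kernel whose
multiplicities are divisible by the multiplicity at a point stabiliser.
-/

set_option autoImplicit false
set_option linter.unusedSectionVars false
set_option linter.style.haveILetI false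

open Cfsg

namespace H23.Three

universe u v

variable {T : Type u} [Group T] [Fintype T] {C : Subgroup T} [hCn : C.Normal] [Fintype C]
  {θ : IrrCharacter C} {V : Type v} [CommGroup V] [Finite V] {p : ℕ} [hp : Fact p.Prime]

theorem relIndex_sup_zpowers (φ : T →* MulAut V) (hker : φ.ker = C) (s : T) :
    C.relIndex (C ⊔ Subgroup.zpowers s) = orderOf (φ s) := by
  subst hker
  rw [Subgroup.relIndex_ker, Subgroup.map_sup, (Subgroup.map_eq_bot_iff _).2 le_rfl, bot_sup_eq,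
    MonoidHom.map_zpowers, Nat.card_zpowers]

theorem index_eq_card_range (φ : T →* MulAut V) (hker : φ.ker = C) :
    C.index = Nat.card φ.range := by
  subst hker
  exact Subgroup.index_ker φ

/-- A coset whose image has cyclic centraliser carries a function over `θ`. -/
theorem regFun_of_cyclic (D : Two C θ) (φ : T →* MulAut V) (hker : φ.ker = C) {x s : T}
    (hx : φ x ∈ Subgroup.zpowers (φ s))
    (hcen : ∀ a ∈ φ.range, a * φ x = φ x * a → a ∈ Subgroup.zpowers (φ s)) :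
    ∃ F, RegFun C θ x (orderOf (φ s)) F := by
  have hmem : ∀ t : T, φ t ∈ Subgroup.zpowers (φ s) → t ∈ C ⊔ Subgroup.zpowers s := by
    intro t ⟨i, hi⟩
    have hi : φ s ^ i = φ t := hi
    have h1 : t * (s ^ i)⁻¹ ∈ C := by
      rw [← hker, MonoidHom.mem_ker, map_mul, map_inv, map_zpow, hi, mul_inv_cancel]
    have := mul_mem (Subgroup.mem_sup_left (T := Subgroup.zpowers s) h1)
      (Subgroup.mem_sup_right (S := C) (zpow_mem (Subgroup.mem_zpowers s) i))
    simpa using this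
  obtain ⟨F, hF⟩ := exists_regFun C θ D.inv (hmem x hx) (fun t ht => hmem t (hcen _ ⟨t, rfl⟩ (by
    rw [← hker, MonoidHom.mem_ker, map_mul, map_mul, map_mul, map_inv, map_inv] at ht
    exact mul_inv_eq_iff_eq_mul.1 (mul_inv_eq_one.1 ht))))
  rw [relIndex_sup_zpowers φ hker s] at hF
  exact ⟨F, hF⟩

theorem conj_of_cyclic (D : Two C θ) (φ : T →* MulAut V) (hker : φ.ker = C) {x s y s' : T}
    (hx : φ x ∈ Subgroup.zpowers (φ s))
    (hcen : ∀ a ∈ φ.range, a * φ x = φ x * a → a ∈ Subgroup.zpowers (φ s))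
    (hy : φ y ∈ Subgroup.zpowers (φ s'))
    (hcen' : ∀ a ∈ φ.range, a * φ y = φ y * a → a ∈ Subgroup.zpowers (φ s'))
    (hx1 : φ x ≠ 1) (hy1 : φ y ≠ 1) : ∃ a ∈ φ.range, a * φ x * a⁻¹ = φ y := by
  obtain ⟨F, hF⟩ := regFun_of_cyclic D φ hker hx hcen
  obtain ⟨G, hG⟩ := regFun_of_cyclic D φ hker hy hcen'
  obtain ⟨t, ht⟩ := conj_of_regFun D hF hG (fun h => hx1 (by rw [← hker] at h; exact h))
    (fun h => hy1 (by rw [← hker] at h; exact h))
  rw [← hker, MonoidHom.mem_ker, map_mul, map_mul, map_mul, map_inv, map_inv] at ht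
  exact ⟨φ t, ⟨t, rfl⟩, mul_inv_eq_one.1 ht⟩

variable {n : ℕ}

/-- What a primitive prime divisor of `p ^ n - 1` gives. -/
theorem prime_case (D : Two C θ) (φ : T →* MulAut V) (hker : φ.ker = C)
    (hexp : ∀ x : V, x ^ p = 1) (hcard : Nat.card V = p ^ n) (hn : 2 ≤ n)
    {f : ℕ} (hf1 : f ∣ D.e₁) (hf2 : f ∣ D.e₂) (hidx : C.index = f ^ 2 * (p ^ n - 1))
    {r : ℕ} [hr : Fact r.Prime] (hdvd : r ∣ p ^ n - 1) (hord : orderOf (p : ZMod r) = n) :
    r = n + 1 ∧ r % 4 = 1 ∧ (∃ s, p ^ n - 1 = r * s ^ 2) ∧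
      (∃ x ∈ φ.range, orderOf x = r ∧ ∀ a ∈ φ.range, a * x = x * a → a ∈ Subgroup.zpowers x) ∧
      ∃ g, C.index = g ^ 2 * r := by
  classical
  obtain ⟨⟨g₀, x, rfl⟩, hg₀⟩ := exists_prime_orderOf_dvd_card' (G := φ.range) r
    (by rw [← index_eq_card_range φ hker, hidx]; exact hdvd.mul_left _)
  rw [← Subgroup.orderOf_coe] at hg₀
  have hP : Prim p n r (φ x) := ⟨hexp, hcard, by omega, hr.out, hg₀, hord⟩
  haveI : IsCyclic (φ.range ⊓ Subgroup.centralizer {φ x} : Subgroup (MulAut V)) :=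
    hP.isCyclic_centralizer _ fun a ha => Subgroup.mem_centralizer_singleton_iff.1 ha.2
  obtain ⟨⟨k, hk⟩, hgen⟩ := IsCyclic.exists_generator
    (α := (φ.range ⊓ Subgroup.centralizer {φ x} : Subgroup (MulAut V)))
  obtain ⟨s, rfl⟩ := hk.1
  have hcen : ∀ a ∈ φ.range, a * φ x = φ x * a → a ∈ Subgroup.zpowers (φ s) := by
    intro a ha hax
    obtain ⟨i, hi⟩ := hgen ⟨a, ha, Subgroup.mem_centralizer_singleton_iff.2 hax⟩
    exact ⟨i, congrArg Subtype.val hi⟩
  have hxs : φ x ∈ Subgroup.zpowers (φ s) := hcen _ ⟨x, rfl⟩ rfl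
  change orderOf (φ x) = r at hg₀
  have hx1 : φ x ≠ 1 := fun h =>
    hr.out.one_lt.ne ((orderOf_eq_one_iff.2 h).symm.trans hg₀)
  have hs1 : φ s ≠ 1 := fun h => hx1 (by rwa [h, Subgroup.zpowers_one_eq_bot, Subgroup.mem_bot] at hxs)
  -- the generator has order `r`
  have hcens : ∀ a ∈ φ.range, a * φ s = φ s * a → a ∈ Subgroup.zpowers (φ s) := by
    intro a ha has
    obtain ⟨i, hi⟩ := hxs
    have hi : φ s ^ i = φ x := hi
    refine hcen a ha ?_
    rw [← hi]
    exact (Commute.zpow_right has i : _)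
  obtain ⟨b, -, hb⟩ := conj_of_cyclic D φ hker hxs hcen (Subgroup.mem_zpowers _) hcens hx1 hs1
  have hso : orderOf (φ s) = r := by
    rw [← hb, ← hg₀]
    exact orderOf_injective (MulAut.conj b).toMonoidHom (MulAut.conj b).injective (φ x)
  have hzp : Subgroup.zpowers (φ x) = Subgroup.zpowers (φ s) :=
    Subgroup.eq_of_le_of_card_ge (Subgroup.zpowers_le.2 hxs)
      (by rw [Nat.card_zpowers, Nat.card_zpowers, hso, hg₀])
  obtain ⟨F, hF⟩ := regFun_of_cyclic D φ hker hxs hcen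
  rw [hso] at hF
  obtain ⟨g, a, b', hg, hab, ha, hb', hdiv⟩ :=
    prime_ratio D hF (fun h => hx1 (by rw [← hker] at h; exact h))
  obtain ⟨s', hs'⟩ := hdiv f hf1 hf2
  have hf0 : f ≠ 0 := fun h => by
    rw [h] at hf1
    exact D.pos₁.ne' (Nat.eq_zero_of_zero_dvd hf1)
  have hs2 : p ^ n - 1 = r * s' ^ 2 := by
    rw [hidx, hs'] at hg
    refine Nat.eq_of_mul_eq_mul_left (pow_pos (Nat.pos_of_ne_zero hf0) 2) ?_
    rw [hg]; ring
  -- every power of `x` is conjugate to `x`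
  have hn1 : n ∣ r - 1 := by
    rw [← hord]
    refine orderOf_dvd_of_pow_eq_one (ZMod.pow_card_sub_one_eq_one fun h0 => ?_)
    exact hP.ne_p ((Nat.prime_dvd_prime_iff_eq hr.out hp.out).1
      ((ZMod.natCast_eq_zero_iff _ _).1 h0))
  have hsurj : ∀ c : (ZMod r)ˣ, c ∈ Subgroup.zpowers
      (Units.mk0 (p : ZMod r) fun h0 => hP.ne_p ((Nat.prime_dvd_prime_iff_eq hr.out hp.out).1
        ((ZMod.natCast_eq_zero_iff _ _).1 h0))) := by
    intro c
    set j := (c : ZMod r).val with hj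
    have hjr : ¬ r ∣ j := by
      rw [← ZMod.natCast_eq_zero_iff, hj, ZMod.natCast_rightInverse]
      exact c.ne_zero
    have hj1 : φ (x ^ j) ≠ 1 := by
      rw [map_pow, ne_eq, ← orderOf_dvd_iff_pow_eq_one, hg₀]
      exact hjr
    have hcenj : ∀ a ∈ φ.range, a * φ (x ^ j) = φ (x ^ j) * a → a ∈ Subgroup.zpowers (φ s) := by
      intro a ha hax
      obtain ⟨i, hi⟩ := exists_pow_eq_self_of_coprime (x := φ x) (n := j)
        (by rw [hg₀]; exact (hr.out.coprime_iff_not_dvd.2 hjr).symm)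
      refine hcen a ha ?_
      rw [← hi, ← map_pow]
      exact (Commute.pow_right hax i : _)
    obtain ⟨a, -, ha'⟩ := conj_of_cyclic D φ hker hxs hcen
      (by rw [map_pow]; exact pow_mem hxs j) hcenj hx1 hj1
    rw [map_pow] at ha'
    obtain ⟨i, hi⟩ := hP.exponent_frobenius ha' hjr
    rw [hj, ZMod.natCast_rightInverse] at hi
    exact ⟨i, Units.ext (by simp [hi])⟩
  have hrn : r = n + 1 := by
    have h1 : Nat.card (ZMod r)ˣ ≤ n := by
      rw [← Subgroup.card_top, ← (Subgroup.eq_top_iff' _).2 hsurj, Nat.card_zpowers, ← orderOf_units,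
        Units.val_mk0, hord]
    rw [Nat.card_eq_fintype_card, ZMod.card_units r] at h1
    have := hr.out.two_le
    have := Nat.le_of_dvd (by omega) hn1
    omega
  refine ⟨hrn, ?_, ⟨s', hs2⟩, ⟨φ x, ⟨x, rfl⟩, hg₀, fun c hc hcx => hzp ▸ hcen c hc hcx⟩, g, hg⟩
  refine odd_part_sq_add_sq 0 (a := a) (b := b') (by rw [pow_zero, one_mul, ← hab]) ?_
  exact hr.out.odd_of_ne_two (by omega)

/-- A transitive group of automorphisms of order `8` of a group of order `9`. -/
theorem three_two_case (D : Two C θ) (φ : T →* MulAut V) (hker : φ.ker = C)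
    (hexp : ∀ x : V, x ^ 3 = 1) (hcard : Nat.card V = 9)
    (htr : ∀ a b : V, a ≠ 1 → b ≠ 1 → ∃ t, φ t a = b) (h8 : Nat.card φ.range = 8) : False := by
  classical
  -- the action is fixed point free
  have hfpf : ∀ a ∈ φ.range, ∀ v : V, v ≠ 1 → a v = v → a = 1 := by
    intro a ha v hv hav
    let ev : φ.range → {w : V // w ≠ 1} := fun b =>
      ⟨(b : MulAut V) v, fun h => hv ((b : MulAut V).map_eq_one_iff.1 h)⟩
    have hsur : Function.Surjective ev := fun w => by
      obtain ⟨t, ht⟩ := htr v w.1 hv w.2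
      exact ⟨⟨φ t, t, rfl⟩, Subtype.ext ht⟩
    haveI : Fintype V := Fintype.ofFinite V
    have hc : Nat.card {w : V // w ≠ 1} = 8 := by
      rw [Nat.card_eq_fintype_card, Fintype.card_subtype_compl, Fintype.card_subtype_eq,
        ← Nat.card_eq_fintype_card, hcard]
    have hbij := (Nat.bijective_iff_surjective_and_card ev).2 ⟨hsur, by rw [h8, hc]⟩
    exact congrArg Subtype.val (hbij.1 (a₁ := ⟨a, ha⟩) (a₂ := 1) (Subtype.ext hav))
  -- an involution inverts everything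
  have hinvo : ∀ a ∈ φ.range, a * a = 1 → a ≠ 1 → ∀ v : V, a v = v⁻¹ := by
    intro a ha haa ha1 v
    have h1 : a (v * a v) = v * a v := by
      rw [map_mul, ← MulAut.mul_apply, haa, MulAut.one_apply, mul_comm]
    by_contra hne
    exact ha1 (hfpf a ha _ (fun h0 => hne (eq_inv_of_mul_eq_one_right h0)) h1)
  have huniq : ∀ a ∈ φ.range, ∀ b ∈ φ.range, a * a = 1 → b * b = 1 → a ≠ 1 → b ≠ 1 → a = b :=
    fun a ha b hb haa hbb ha1 hb1 => MulEquiv.ext fun v => by
      rw [hinvo a ha haa ha1 v, hinvo b hb hbb hb1 v]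
  have hord : ∀ a ∈ φ.range, a ^ 8 = 1 := fun a ha => by
    have := pow_card_eq_one' (G := φ.range) (x := ⟨a, ha⟩)
    rw [h8] at this
    exact congrArg Subtype.val this
  have hcardz : ∀ a, a ∈ φ.range → orderOf a = 8 → ∀ b ∈ φ.range, b ∈ Subgroup.zpowers a := by
    intro a ha ho b hb
    rwa [Subgroup.eq_of_le_of_card_ge (Subgroup.zpowers_le.2 ha)
      (by rw [Nat.card_zpowers, ho, h8])]
  -- no element of order `8`
  have hno : ∀ a ∈ φ.range, a ^ 4 = 1 := by
    rintro a ⟨t, rfl⟩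
    by_contra h4
    have ho : orderOf (φ t) = 8 := by
      have hd : orderOf (φ t) ∣ 2 ^ 3 := orderOf_dvd_of_pow_eq_one (hord _ ⟨t, rfl⟩)
      obtain ⟨i, hi, hi'⟩ := (Nat.dvd_prime_pow Nat.prime_two).1 hd
      by_contra h8'
      have : i ≤ 2 := by
        by_contra hh
        have : i = 3 := by omega
        subst this
        exact h8' hi'
      exact h4 (orderOf_dvd_iff_pow_eq_one.1 (hi' ▸ (show 2 ^ i ∣ 2 ^ 2 from pow_dvd_pow 2 this)))
    have hall := hcardz _ ⟨t, rfl⟩ ho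
    obtain ⟨b, -, hb⟩ := conj_of_cyclic D φ hker (x := t) (s := t) (y := t ^ 2) (s' := t)
      (Subgroup.mem_zpowers _) (fun a ha _ => hall a ha)
      (by rw [map_pow]; exact pow_mem (Subgroup.mem_zpowers _) 2) (fun a ha _ => hall a ha)
      (fun h => h4 (by rw [h, one_pow]))
      (fun h => h4 (by rw [map_pow] at h; rw [show 4 = 2 * 2 from rfl, pow_mul, h, one_pow]))
    have h2 : orderOf (φ (t ^ 2)) = 8 := by
      rw [← hb, ← ho]
      exact orderOf_injective (MulAut.conj b).toMonoidHom (MulAut.conj b).injective (φ t)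
    have h4' : orderOf (φ (t ^ 2)) ∣ 4 := orderOf_dvd_of_pow_eq_one (by
      rw [map_pow, ← pow_mul]; exact hord _ ⟨t, rfl⟩)
    have := Nat.le_of_dvd (by norm_num) h4'
    omega
  obtain ⟨t, ht⟩ : ∃ t : T, φ t * φ t ≠ 1 := by
    by_contra hne
    push Not at hne
    haveI : Fintype φ.range := Fintype.ofFinite _
    obtain ⟨b, hb⟩ : ∃ b : φ.range, b ≠ 1 :=
      Fintype.exists_ne_of_one_lt_card (by rw [← Nat.card_eq_fintype_card, h8]; norm_num) 1
    have hsub : Nat.card φ.range ≤ 2 := by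
      rw [Nat.card_eq_fintype_card, ← Finset.card_univ]
      refine (Finset.card_le_card (t := {1, b}) fun c _ => ?_).trans Finset.card_le_two
      by_contra hc
      simp only [Finset.mem_insert, Finset.mem_singleton, not_or] at hc
      obtain ⟨tb, htb⟩ := b.2
      obtain ⟨tc, htc⟩ := c.2
      exact hc.2 (Subtype.ext (huniq _ c.2 _ b.2 (by rw [← htc]; exact hne tc)
        (by rw [← htb]; exact hne tb) (fun h0 => hc.1 (Subtype.ext h0))
        (fun h0 => hb (Subtype.ext h0))))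
    omega
  -- elements squaring nontrivially generate their centralisers
  have hcen : ∀ t : T, φ t * φ t ≠ 1 → ∀ a ∈ φ.range, a * φ t = φ t * a →
      a ∈ Subgroup.zpowers (φ t) := by
    intro t ht a ha hat
    by_contra hnot
    have h4t := hno _ ⟨t, rfl⟩
    have h4a := hno a ha
    have htt : (φ t * φ t) * (φ t * φ t) = 1 := by
      rw [← h4t]; simp [pow_succ, mul_assoc]
    by_cases haa : a * a = 1
    · by_cases ha1 : a = 1
      · exact hnot (ha1 ▸ one_mem _)
      · exact hnot (huniq a ha _ (mul_mem ⟨t, rfl⟩ ⟨t, rfl⟩) haa htt ha1 ht ▸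
          mul_mem (Subgroup.mem_zpowers _) (Subgroup.mem_zpowers _))
    · have hsq : a * a = φ t * φ t := huniq _ (mul_mem ha ha) _ (mul_mem ⟨t, rfl⟩ ⟨t, rfl⟩)
        (by rw [← h4a]; simp [pow_succ, mul_assoc]) htt haa ht
      have hc : Commute a (φ t)⁻¹ := Commute.inv_right hat
      have h1 : a * (φ t)⁻¹ * (a * (φ t)⁻¹) = 1 := by
        rw [hc.symm.mul_mul_mul_comm, hsq]; group
      by_cases h2 : a * (φ t)⁻¹ = 1
      · exact hnot (mul_inv_eq_one.1 h2 ▸ Subgroup.mem_zpowers _)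
      · have h3 := huniq _ (mul_mem ha (inv_mem ⟨t, rfl⟩)) _ (mul_mem ⟨t, rfl⟩ ⟨t, rfl⟩) h1 htt h2 ht
        exact hnot (mul_inv_eq_iff_eq_mul.1 h3 ▸ mul_mem (mul_mem (Subgroup.mem_zpowers _)
          (Subgroup.mem_zpowers _)) (Subgroup.mem_zpowers _))
  set Z := (Subgroup.zpowers (φ t)).subgroupOf φ.range with hZ
  have ho : orderOf (φ t) = 4 := by
    refine orderOf_eq_prime_pow (p := 2) (n := 1) ?_ (hno _ ⟨t, rfl⟩)
    rw [pow_one, pow_two]; exact ht
  have hle : Subgroup.zpowers (φ t) ≤ φ.range := Subgroup.zpowers_le.2 ⟨t, rfl⟩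
  have hidx : Z.index = 2 := by
    have h1 := Z.card_mul_index
    rw [Nat.card_congr (Subgroup.subgroupOfEquivOfLe hle).toEquiv, Nat.card_zpowers, ho, h8] at h1
    omega
  haveI := Subgroup.normal_of_index_eq_two hidx
  obtain ⟨⟨_, u, rfl⟩, hu⟩ : ∃ u : φ.range, u ∉ Z := by
    by_contra hne
    push Not at hne
    rw [(Subgroup.eq_top_iff' Z).2 hne, Subgroup.index_top] at hidx
    norm_num at hidx
  have hu' : φ u ∉ Subgroup.zpowers (φ t) := hu
  have huu : φ u * φ u ≠ 1 := fun h => by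
    have h4t := hno _ ⟨t, rfl⟩
    by_cases hu1 : φ u = 1
    · exact hu' (hu1 ▸ one_mem _)
    · exact hu' (huniq _ ⟨u, rfl⟩ _ (mul_mem ⟨t, rfl⟩ ⟨t, rfl⟩) h
        (by rw [← h4t]; simp [pow_succ, mul_assoc]) hu1 ht ▸
          mul_mem (Subgroup.mem_zpowers _) (Subgroup.mem_zpowers _))
  obtain ⟨b, hb, hbt⟩ := conj_of_cyclic D φ hker (Subgroup.mem_zpowers _) (hcen t ht)
    (Subgroup.mem_zpowers _) (hcen u huu) (fun h => ht (by rw [h, one_mul]))
    (fun h => huu (by rw [h, one_mul]))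
  apply hu
  have := Subgroup.Normal.conj_mem (H := Z) inferInstance ⟨φ t, t, rfl⟩
    (show (⟨φ t, t, rfl⟩ : φ.range) ∈ Z from Subgroup.mem_zpowers (φ t)) ⟨b, hb⟩
  have e : (⟨b, hb⟩ * ⟨φ t, t, rfl⟩ * (⟨b, hb⟩ : φ.range)⁻¹ : φ.range) = ⟨φ u, u, rfl⟩ :=
    Subtype.ext hbt
  rwa [e] at this

end H23.Three
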