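import Cfsg.Agent.H23.Three.Reduce
import Cfsg.Agent.H23.Cyc.Shape
import Cfsg.Agent.H20.SmallBlocks
import Cfsg.Agent.H21.QuotientBlocks
import Cfsg.Agent.H29.FrattiniBasis

/-!
A normal defect group is cyclic when the block has at most three characters of height zero; a block
with cyclic defect group and three characters has defect group of order three.
-/

set_option autoImplicit false
set_option linter.unusedSectionVars false
set_option linter.style.haveILetI false

open Cfsg
open scoped commutatorElement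

namespace H23.Three

universe u

variable {M : Ideal AlgInt} [hMp : M.IsPrime] {G : Type u} [Group G] [Fintype G]
  {p : ℕ} [hp : Fact p.Prime]

/-- An elementary abelian normal defect group of a block with at most three characters is cyclic. -/
theorem prime_card_of_small (hM : IsPModular p M) {B : Set (IrrCharacter G)} (hB : IsPBlock M B)
    {D : Subgroup G} [D.Normal] (hD : IsDefectGroup p M B D)
    (hab : ∀ a ∈ D, ∀ b ∈ D, a * b = b * a) (hexp : ∀ x ∈ D, x ^ p = 1) (hD1 : D ≠ ⊥)
    (hk : Nat.card B ≤ 3) : (Nat.card D).Prime := by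
  have h1 : 1 < Nat.card D := (Subgroup.one_lt_card_iff_ne_bot _).2 hD1
  obtain ⟨hl1, hlk⟩ := H20.SmallBlocks.blockRank_lt hM hB hD h1
  rcases (show Nat.card B = 2 ∨ Nat.card B = 3 by omega) with h2 | h3
  · rw [(H20.SmallBlocks.card_eq_two_iff hM hB hD).1 h2]
    exact Nat.prime_two
  · rcases (show blockRank p B = 1 ∨ blockRank p B = 2 by omega) with hl | hl
    · rw [(H20.SmallBlocks.nilpotent_of_small hM hB hD hD1 hl (by omega)).2.1, h3]
      exact Nat.prime_three
    · obtain ⟨n, hn⟩ := IsPGroup.iff_card.1 (H20.IsDefectGroup.isPGroup hD)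
      rcases n with _ | _ | n
      · rw [pow_zero] at hn; omega
      · rw [hn, pow_one]; exact hp.out
      · exact (false_of_rank_two hM hB hD hab hexp hn (by omega) h3 hl).elim

/-- A normal defect group is cyclic if the block has at most three characters of height zero. -/
theorem isCyclic_of_small (hM : IsPModular p M) {B : Set (IrrCharacter G)} (hB : IsPBlock M B)
    {D : Subgroup G} [hDn : D.Normal] (hD : IsDefectGroup p M B D) (hD1 : D ≠ ⊥)
    (hk : Nat.card {χ : IrrCharacter G // χ ∈ B ∧ blockHeight p B (χ : G → ℂ) = 0} ≤ 3) :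
    IsCyclic D := by
  classical
  have hDp : IsPGroup p D := H20.IsDefectGroup.isPGroup hD
  obtain ⟨K, hK⟩ : ∃ K, K = (frattini D).map D.subtype := ⟨_, rfl⟩
  haveI : K.Normal := hK ▸ ConjAct.normal_of_characteristic_of_normal
  have hKD : K ≤ D := hK ▸ Subgroup.map_subtype_le _
  have hKp : IsPGroup p K := hDp.to_le hKD
  set π := QuotientGroup.mk' K with hπ
  have hπs : Function.Surjective π := QuotientGroup.mk'_surjective K
  haveI : Fintype (G ⧸ K) := Fintype.ofFinite _
  set Db : Subgroup (G ⧸ K) := D.map π with hDb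
  haveI : Db.Normal := Subgroup.Normal.map inferInstance π hπs
  obtain ⟨Bb, hBb, hsub, hdef⟩ := H21.exists_quotient_block K hM hKp hB
  have hDbd : IsDefectGroup p M Bb Db := (hdef Db).2 ⟨D, hD, rfl⟩
  have hmk : ∀ a : D, π (a : G) = 1 ↔ a ∈ frattini D := by
    intro a
    rw [hπ, QuotientGroup.mk'_apply, QuotientGroup.eq_one_iff, hK, Subgroup.mem_map]
    exact ⟨fun ⟨b, hb, h⟩ => (Subtype.ext h : b = a) ▸ hb, fun h => ⟨a, h, rfl⟩⟩
  have hab : ∀ a ∈ Db, ∀ c ∈ Db, a * c = c * a := by
    rintro _ ⟨a, ha, rfl⟩ _ ⟨c, hc, rfl⟩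
    rw [← commutatorElement_eq_one_iff_mul_comm, ← map_commutatorElement]
    exact (hmk ⁅(⟨a, ha⟩ : D), ⟨c, hc⟩⁆).2 (H6.commutator_le_frattini hDp
      (Subgroup.commutator_mem_commutator (Subgroup.mem_top _) (Subgroup.mem_top _)))
  have hexpD : ∀ x ∈ Db, x ^ p = 1 := by
    rintro _ ⟨a, ha, rfl⟩
    rw [← map_pow]
    exact (hmk ((⟨a, ha⟩ : D) ^ p)).2 (H6.pow_prime_mem_frattini hDp _)
  have hDb1 : Db ≠ ⊥ := by
    intro h
    haveI : Nontrivial D := (Subgroup.nontrivial_iff_ne_bot D).2 hD1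
    refine (bot_lt_top : (⊥ : Subgroup D) < ⊤).ne (frattini_nongenerating ?_)
    rw [bot_sup_eq, eq_top_iff]
    intro a _
    rw [← hmk]
    exact (Subgroup.mem_bot).1 (h ▸ Subgroup.mem_map_of_mem π a.2)
  -- the characters of the quotient block have height zero in `B`
  have hexp : H22.blockExp p Bb = H22.blockExp p B := by
    obtain ⟨χ, hχ⟩ := H20.block_nonempty hBb
    have h1 := H22.blockDefect_add_blockExp (p := p) hχ
    have h2 := H22.blockDefect_add_blockExp (p := p) (hsub χ hχ)
    have c1 := H22.card_isDefectGroup hM hBb hDbd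
    have c2 := H22.card_isDefectGroup hM hB hD
    obtain ⟨j, hj⟩ := IsPGroup.iff_card.1 hKp
    have e1 : Nat.card D = Nat.card K * Nat.card Db := by
      refine Nat.eq_of_mul_eq_mul_right (Nat.pos_of_ne_zero D.index_ne_zero_of_finite) ?_
      rw [Subgroup.card_mul_index, ← K.card_mul_index, Subgroup.index_eq_card,
        ← Db.card_mul_index, hDb, D.index_map_eq hπs (by rw [QuotientGroup.ker_mk']; exact hKD),
        mul_assoc]
    rw [c1, c2, hj, ← pow_add] at e1
    have e1 := Nat.pow_right_injective hp.out.two_le e1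
    have e2 : (Nat.card G).factorization p = j + (Nat.card (G ⧸ K)).factorization p := by
      rw [← K.card_mul_index, Subgroup.index_eq_card, Nat.factorization_mul Nat.card_pos.ne'
        Nat.card_pos.ne', hj, Finsupp.add_apply, hp.out.factorization_pow, Finsupp.single_eq_same]
    omega
  have hkb : Nat.card Bb ≤ 3 := by
    refine le_trans (Nat.card_le_card_of_injective
      (fun χ : Bb => (⟨H21.inflate K χ.1, hsub χ.1 χ.2, ?_⟩ :
        {χ : IrrCharacter G // χ ∈ B ∧ blockHeight p B (χ : G → ℂ) = 0})) ?_) hk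
    · have h0 := H21.height_eq_zero_of_abelian hM hBb hDbd hab χ.2
      have h4 := H22.blockHeight_add_blockExp (p := p) χ.2
      have h5 := H22.blockHeight_add_blockExp (p := p) (hsub χ.1 χ.2)
      have h6 : charDegree (H21.inflate K χ.1 : G → ℂ) = charDegree (χ.1 : G ⧸ K → ℂ) := by
        simp only [charDegree, H21.inflate_apply, QuotientGroup.mk_one]
      rw [h6] at h5
      omega
    · intro χ χ' h
      refine Subtype.ext (Subtype.ext (funext fun q => ?_))
      obtain ⟨g, rfl⟩ := hπs q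
      exact congrArg (fun ψ => (ψ.1 : G → ℂ) g) h
  have hprime := prime_card_of_small hM hBb hDbd hab hexpD hDb1 hkb
  haveI : Fact (Nat.card Db).Prime := ⟨hprime⟩
  haveI : IsCyclic Db := isCyclic_of_prime_card rfl
  obtain ⟨⟨y, x, hx, rfl⟩, hy⟩ := IsCyclic.exists_generator (α := Db)
  refine ⟨⟨(⟨x, hx⟩ : D), fun a => ?_⟩⟩
  have htop : Subgroup.zpowers (⟨x, hx⟩ : D) = ⊤ := by
    refine frattini_nongenerating (eq_top_iff.2 fun b _ => ?_)
    obtain ⟨i, hi⟩ := Subgroup.mem_zpowers_iff.1 (hy ⟨_, Subgroup.mem_map_of_mem π b.2⟩)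
    have hi' : π x ^ i = π (b : G) := congrArg Subtype.val hi
    have hb : ((⟨x, hx⟩ : D) ^ i)⁻¹ * b ∈ frattini D := (hmk _).1 (by
      rw [Subgroup.coe_mul, Subgroup.coe_inv, Subgroup.coe_zpow, map_mul, map_inv, map_zpow,
        hi', inv_mul_cancel])
    rw [← mul_inv_cancel_left ((⟨x, hx⟩ : D) ^ i) b]
    exact mul_mem (Subgroup.mem_sup_left (Subgroup.zpow_mem_zpowers _ i)) (Subgroup.mem_sup_right hb)
  exact Subgroup.mem_zpowers_iff.1 (by rw [htop]; exact Subgroup.mem_top a)

/-- A block with cyclic defect group and three characters has defect group of order three. -/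
theorem card_eq_three_of_cyclic (hM : IsPModular p M) {B : Set (IrrCharacter G)}
    (hB : IsPBlock M B) {D : Subgroup G} (hD : IsDefectGroup p M B D) (hcyc : IsCyclic D)
    (hD1 : D ≠ ⊥) (hk : Nat.card B = 3) : Nat.card D = 3 := by
  classical
  haveI := H20.k_charP (p := p) hM
  haveI := H23.isAlgClosed_k hM.2.1
  obtain ⟨f₀, hmax⟩ := H23.exists_maxPair_defect (p := p) hB hM hD
  obtain ⟨z, S⟩ := H23.Cyc.exists_setup hM hB hmax hcyc hD1
  haveI := Fintype.ofFinite (H23.Cyc.Cz z)
  obtain ⟨L⟩ := H23.Cyc.exists_loc S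
  obtain ⟨ι, _, ⟨Sh⟩⟩ := L.exists_shape
  have h1 := Sh.card_ι
  have h2 := Sh.card_B
  rw [Sh.rank, hk] at h2
  have h3 : 1 < Nat.card D := (Subgroup.one_lt_card_iff_ne_bot _).2 hD1
  rw [← h1] at h3 ⊢
  rcases (show Nat.card ι = 0 ∨ Nat.card ι = 1 ∨ Nat.card ι = 2 ∨ Nat.card ι = 3 by omega) with
    hm | hm | hm | hm <;> rw [hm] at h2 h3 ⊢ <;> omega

end H23.Three
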