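import Cfsg.Agent.H23.Three.Core

/-!
The linear core for blocks with three characters and a normal elementary abelian defect group.
-/

set_option autoImplicit false
set_option linter.unusedSectionVars false
set_option linter.style.haveILetI false

open Cfsg

namespace H23.Three

universe u v

variable {T : Type u} [Group T] [Fintype T] {C : Subgroup T} [hCn : C.Normal] [Fintype C]
  {θ : IrrCharacter C} {V : Type v} [CommGroup V] [Finite V] {p : ℕ} [hp : Fact p.Prime]

/-- An involution in an abelian normal subgroup of a transitive group is central. -/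
theorem central_of_normal (φ : T →* MulAut V) (hodd : ∀ x : V, x * x = 1 → x = 1)
    (hne : ∃ x : V, x ≠ 1) (htr : ∀ a b : V, a ≠ 1 → b ≠ 1 → ∃ t, φ t a = b)
    {S : Finset (MulAut V)} (hS : ∀ z ∈ S, z * z = 1)
    (hcomm : ∀ z ∈ S, ∀ z' ∈ S, z * z' = z' * z)
    (hconj : ∀ t : T, ∀ z ∈ S, φ t * z * (φ t)⁻¹ ∈ S) :
    ∀ z ∈ S, ∀ a : MulAut V, a * z = z * a := by
  classical
  have hex : ∀ R : Finset (MulAut V), R ⊆ S →
      ∃ v : V, v ≠ 1 ∧ ∀ z ∈ R, z v = v ∨ z v = v⁻¹ := by
    intro R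
    induction R using Finset.induction with
    | empty => exact fun _ => ⟨hne.choose, hne.choose_spec, by simp⟩
    | insert w R hw ih =>
      intro hsub
      obtain ⟨v, hv, hR⟩ := ih ((Finset.subset_insert w R).trans hsub)
      have hwS : w ∈ S := hsub (Finset.mem_insert_self w R)
      by_cases hneg : w v = v⁻¹
      · refine ⟨v, hv, fun z hz => ?_⟩
        rcases Finset.mem_insert.1 hz with rfl | hz
        · exact Or.inr hneg
        · exact hR z hz
      · refine ⟨v * w v, fun h => hneg (eq_inv_of_mul_eq_one_right h), fun z hz => ?_⟩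
        rcases Finset.mem_insert.1 hz with rfl | hz
        · left
          rw [map_mul, ← MulAut.mul_apply, hS z hwS, MulAut.one_apply, mul_comm]
        · have hc : z (w v) = w (z v) := by
            rw [← MulAut.mul_apply, hcomm z (hsub (Finset.mem_insert_of_mem hz)) w hwS]; rfl
          rcases hR z hz with h | h
          · left; rw [map_mul, hc, h]
          · right; rw [map_mul, hc, h, map_inv, mul_inv]
  obtain ⟨v, hv, hvS⟩ := hex S subset_rfl
  intro z hz a
  -- every vector is an eigenvector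
  have hall : ∀ w : V, w ≠ 1 → z w = w ∨ z w = w⁻¹ := by
    intro w hw
    obtain ⟨t, ht⟩ := htr w v hw hv
    have h1 := hvS _ (hconj t z hz)
    rw [MulAut.mul_apply, MulAut.mul_apply, ← ht, MulAut.inv_apply, MulEquiv.symm_apply_apply] at h1
    rcases h1 with h1 | h1
    · exact Or.inl ((φ t).injective h1)
    · exact Or.inr ((φ t).injective (by rw [h1, map_inv]))
  have hsame : (∀ w : V, z w = w) ∨ ∀ w : V, z w = w⁻¹ := by
    by_contra hn
    push Not at hn
    obtain ⟨⟨w₁, h₁⟩, w₂, h₂⟩ := hn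
    have hw₁ : w₁ ≠ 1 := fun h => h₁ (by rw [h, map_one])
    have hw₂ : w₂ ≠ 1 := fun h => h₂ (by rw [h, map_one, inv_one])
    have e₁ := (hall w₁ hw₁).resolve_left h₁
    have e₂ := (hall w₂ hw₂).resolve_right h₂
    by_cases hm : w₁ * w₂ = 1
    · rw [eq_inv_of_mul_eq_one_right hm, map_inv, e₁] at h₂
      exact h₂ rfl
    · rcases hall _ hm with h | h
      · rw [map_mul, e₁, e₂, mul_left_inj] at h
        exact hw₁ (hodd _ (inv_eq_iff_mul_eq_one.1 h))
      · rw [map_mul, e₁, e₂, mul_inv, mul_right_inj] at h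
        exact hw₂ (hodd _ (inv_eq_iff_mul_eq_one.1 h.symm))
  refine MulEquiv.ext fun w => ?_
  rw [MulAut.mul_apply, MulAut.mul_apply]
  rcases hsame with h | h
  · rw [h, h]
  · rw [h, h, map_inv]

/-- The case of `3 ^ 4`. -/
theorem three_four_case (φ : T →* MulAut V) (hexp : ∀ x : V, x ^ 3 = 1)
    (hcard : Nat.card V = 3 ^ 4) (htr : ∀ a b : V, a ≠ 1 → b ≠ 1 → ∃ t, φ t a = b)
    (h3 : ¬ 3 ∣ Nat.card φ.range) {g f : ℕ} (hg : Nat.card φ.range = g ^ 2 * 5)
    (hf : Nat.card φ.range = f ^ 2 * 80) {x : MulAut V} (hx : x ∈ φ.range) (hxo : orderOf x = 5)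
    (hcen : ∀ a ∈ φ.range, a * x = x * a → a ∈ Subgroup.zpowers x) : False := by
  classical
  haveI : Fact (Nat.Prime 3) := ⟨Nat.prime_three⟩
  have hdvd : f ^ 2 * 80 ∣ 80 * 78 * 72 * 54 := by
    have := card_dvd hexp hcard φ.range
    rw [hf] at this
    simpa [Fin.prod_univ_four] using this
  have hf3 : ¬ 3 ∣ f := fun h => h3 (hf ▸ Dvd.dvd.mul_right (dvd_pow h two_ne_zero) 80)
  have hf416 : f ^ 2 ∣ 416 := by
    have h1 : f ^ 2 ∣ 416 * 3 ^ 6 :=
      Nat.dvd_of_mul_dvd_mul_right (by norm_num : 0 < 80) (by norm_num; simpa using hdvd)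
    exact (((Nat.prime_three.coprime_iff_not_dvd.2 hf3).symm.pow 2 6)).dvd_of_dvd_mul_right h1
  have hf4 : f = 1 ∨ f = 2 ∨ f = 4 := by
    have hle : f ≤ 20 := by
      by_contra h
      have := Nat.pow_le_pow_left (show 21 ≤ f by omega) 2
      have := Nat.le_of_dvd (by norm_num) hf416
      omega
    interval_cases f <;> revert hf416 <;> norm_num
  have htwo : ∀ r : ℕ, r.Prime → r ∣ Nat.card φ.range → r = 2 ∨ r = 5 := by
    intro r hr hd
    have h1 : r ∣ 2 ^ 8 * 5 := by
      refine hd.trans ?_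
      rw [hf]
      rcases hf4 with rfl | rfl | rfl <;> norm_num
    rcases hr.dvd_mul.1 h1 with h | h
    · exact Or.inl ((Nat.prime_dvd_prime_iff_eq hr Nat.prime_two).1 (hr.dvd_of_dvd_pow h))
    · exact Or.inr ((Nat.prime_dvd_prime_iff_eq hr (by norm_num)).1 h)
  have hsol := H33.isSolvable_of_two_primes Nat.prime_two (by norm_num : Nat.Prime 5) htwo
  -- a nontrivial abelian normal subgroup
  have hk : ∃ k, derivedSeries φ.range k = ⊥ := hsol.solvable
  have hk0 : Nat.find hk ≠ 0 := by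
    intro h0
    have := Nat.find_spec hk
    rw [h0, derivedSeries_zero] at this
    have h1 : Nat.card φ.range = 1 := by rw [← Subgroup.card_top, this, Subgroup.card_bot]
    rw [hf] at h1
    omega
  obtain ⟨k, hk1⟩ : ∃ k, Nat.find hk = k + 1 := ⟨_, (Nat.succ_pred_eq_of_ne_zero hk0).symm⟩
  set A := derivedSeries φ.range k with hA
  have hA0 : A ≠ ⊥ := Nat.find_min hk (by omega)
  have hAc : ∀ a ∈ A, ∀ b ∈ A, a * b = b * a := by
    intro a ha b hb
    have h := Nat.find_spec hk
    rw [hk1, derivedSeries_succ, eq_bot_iff, Subgroup.commutator_le] at h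
    exact commutatorElement_eq_one_iff_mul_comm.1 (Subgroup.mem_bot.1 (h a ha b hb))
  haveI hAn : A.Normal := derivedSeries_normal _ k
  by_cases h5 : 5 ∣ Nat.card A
  · -- a normal subgroup of order five
    haveI : Fact (Nat.Prime 5) := ⟨by norm_num⟩
    obtain ⟨⟨y, hyA⟩, hy⟩ := exists_prime_orderOf_dvd_card' (G := A) 5 h5
    rw [← Subgroup.orderOf_coe] at hy
    have hpow : ∀ w : φ.range, orderOf w = 5 → w ∈ A := by
      intro w hw
      have hq : ((w : φ.range) : φ.range ⧸ A) = 1 := by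
        rw [← orderOf_eq_one_iff]
        have h1 : orderOf (w : φ.range ⧸ A) ∣ 5 := hw ▸ orderOf_map_dvd (QuotientGroup.mk' A) w
        refine ((Nat.dvd_prime (by norm_num : Nat.Prime 5)).1 h1).resolve_right fun h2 => ?_
        have h3' := h2 ▸ (orderOf_dvd_natCard (w : φ.range ⧸ A))
        have h25 : 25 ∣ Nat.card φ.range := by
          rw [← A.card_mul_index, Subgroup.index_eq_card]
          exact Nat.mul_dvd_mul h5 h3'
        rw [hf] at h25
        rcases hf4 with rfl | rfl | rfl <;> norm_num at h25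
      exact (QuotientGroup.eq_one_iff w).1 hq
    -- so the conjugates of `x` lie in `A`
    have hxA : ∀ a : φ.range, a * ⟨x, hx⟩ * a⁻¹ ∈ A := fun a =>
      hAn.conj_mem _ (hpow _ (by rw [← hxo, ← Subgroup.orderOf_coe])) a
    have hin : ∀ a : φ.range, ((a * ⟨x, hx⟩ * a⁻¹ : φ.range) : MulAut V) ∈ Subgroup.zpowers x := by
      intro a
      refine hcen _ (a * ⟨x, hx⟩ * a⁻¹).2 ?_
      exact congrArg Subtype.val (hAc _ (hxA a) _ (hpow ⟨x, hx⟩ (by rw [← hxo, ← Subgroup.orderOf_coe])))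
    -- orbit-stabiliser
    have hbound : Nat.card φ.range ≤ Nat.card (Subgroup.zpowers x) * Nat.card (Subgroup.zpowers x) := by
      have hsub : Subgroup.centralizer ({(⟨x, hx⟩ : φ.range)} : Set φ.range) ≤
          (Subgroup.zpowers x).subgroupOf φ.range := by
        intro a ha
        exact hcen a a.2 (congrArg Subtype.val (Subgroup.mem_centralizer_singleton_iff.1 ha))
      rw [← (Subgroup.centralizer ({(⟨x, hx⟩ : φ.range)} : Set φ.range)).card_mul_index]
      refine Nat.mul_le_mul ((Subgroup.card_le_of_le hsub).trans_eq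
        (Nat.card_congr (Subgroup.subgroupOfEquivOfLe (Subgroup.zpowers_le.2 hx)).toEquiv)) ?_
      rw [Subgroup.index_eq_card]
      refine Nat.card_le_card_of_injective
        (Quotient.lift (fun a : φ.range => (⟨_, hin a⟩ : Subgroup.zpowers x)) ?_) ?_
      · intro a b hab
        have h1 : a⁻¹ * b ∈ Subgroup.centralizer ({(⟨x, hx⟩ : φ.range)} : Set φ.range) :=
          QuotientGroup.leftRel_apply.1 hab
        rw [Subgroup.mem_centralizer_singleton_iff] at h1
        refine Subtype.ext ?_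
        show ((a * ⟨x, hx⟩ * a⁻¹ : φ.range) : MulAut V) = ((b * ⟨x, hx⟩ * b⁻¹ : φ.range) : MulAut V)
        refine congrArg Subtype.val ?_
        calc a * ⟨x, hx⟩ * a⁻¹ = a * (⟨x, hx⟩ * (a⁻¹ * b)) * b⁻¹ := by group
          _ = a * ((a⁻¹ * b) * ⟨x, hx⟩) * b⁻¹ := by rw [h1]
          _ = _ := by group
      · intro a b
        refine Quotient.inductionOn₂ a b fun a b h => Quotient.sound ?_
        have h1 : a * ⟨x, hx⟩ * a⁻¹ = b * ⟨x, hx⟩ * b⁻¹ :=
          Subtype.ext (congrArg Subtype.val h :)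
        refine QuotientGroup.leftRel_apply.2 (Subgroup.mem_centralizer_singleton_iff.2 ?_)
        calc a⁻¹ * b * ⟨x, hx⟩ = a⁻¹ * (b * ⟨x, hx⟩ * b⁻¹) * b := by group
          _ = a⁻¹ * (a * ⟨x, hx⟩ * a⁻¹) * b := by rw [h1]
          _ = _ := by group
    rw [Nat.card_zpowers, hxo, hf] at hbound
    rcases hf4 with rfl | rfl | rfl <;> omega
  · -- a normal abelian subgroup of even order
    have h2 : 2 ∣ Nat.card A := by
      obtain ⟨r, hr, hrA⟩ := Nat.exists_prime_and_dvd
        (fun h => hA0 (Subgroup.eq_bot_of_card_eq A h))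
      rcases htwo r hr (hrA.trans A.card_subgroup_dvd_card) with rfl | rfl
      · exact hrA
      · exact absurd hrA h5
    haveI : Fact (Nat.Prime 2) := ⟨Nat.prime_two⟩
    obtain ⟨⟨⟨z, hz⟩, hzA⟩, hzo⟩ := exists_prime_orderOf_dvd_card' (G := A) 2 h2
    rw [← Subgroup.orderOf_coe, ← Subgroup.orderOf_coe] at hzo
    haveI : Fintype (MulAut V) := Fintype.ofFinite _
    set S : Finset (MulAut V) := Finset.univ.filter
      (fun w => w * w = 1 ∧ ∃ h : w ∈ φ.range, (⟨w, h⟩ : φ.range) ∈ A) with hS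
    have hzS : z ∈ S := by
      refine Finset.mem_filter.2 ⟨Finset.mem_univ _, ?_, hz, hzA⟩
      rw [← pow_two]; exact hzo ▸ pow_orderOf_eq_one z
    have hc := central_of_normal φ (fun w hw => ?_) ?_ htr (S := S)
      (fun w hw => (Finset.mem_filter.1 hw).2.1)
      (fun w hw w' hw' => by
        obtain ⟨-, -, h, hA1⟩ := Finset.mem_filter.1 hw
        obtain ⟨-, -, h', hA2⟩ := Finset.mem_filter.1 hw'
        exact congrArg Subtype.val (hAc _ hA1 _ hA2))
      (fun t w hw => by
        obtain ⟨-, hww, h, hA1⟩ := Finset.mem_filter.1 hw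
        refine Finset.mem_filter.2 ⟨Finset.mem_univ _, ?_,
          mul_mem (mul_mem ⟨t, rfl⟩ h) (inv_mem ⟨t, rfl⟩), hAn.conj_mem _ hA1 ⟨φ t, t, rfl⟩⟩
        calc φ t * w * (φ t)⁻¹ * (φ t * w * (φ t)⁻¹) = φ t * (w * w) * (φ t)⁻¹ := by group
          _ = 1 := by rw [hww, mul_one, mul_inv_cancel]) z hzS
    · have hzx := hcen z hz (hc x).symm
      have h1 := orderOf_dvd_of_mem_zpowers hzx
      rw [hzo, hxo] at h1
      norm_num at h1
    · have h1 := hexp w
      rwa [pow_succ, pow_two, hw, one_mul] at h1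
    · by_contra hne
      push Not at hne
      haveI : Subsingleton V := ⟨fun a b => by rw [hne a, hne b]⟩
      rw [Nat.card_of_subsingleton (1 : V)] at hcard
      norm_num at hcard

/-- The core. -/
theorem core (D : Two C θ) (φ : T →* MulAut V) (hker : φ.ker = C) {n : ℕ}
    (hexp : ∀ x : V, x ^ p = 1) (hcard : Nat.card V = p ^ n) (hn : 2 ≤ n)
    (htr : ∀ a b : V, a ≠ 1 → b ≠ 1 → ∃ t, φ t a = b) (hp' : ¬ p ∣ C.index)
    {f : ℕ} (hf1 : f ∣ D.e₁) (hf2 : f ∣ D.e₂) (hidx : C.index = f ^ 2 * (p ^ n - 1)) : False := by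
  classical
  have hf0 : f ≠ 0 := fun h => by
    rw [h] at hf1; exact D.pos₁.ne' (Nat.eq_zero_of_zero_dvd hf1)
  obtain ⟨m₁, hm₁⟩ := hf1
  obtain ⟨m₂, hm₂⟩ := hf2
  have hsum : m₁ ^ 2 + m₂ ^ 2 = p ^ n - 1 := by
    have h := index_eq D
    rw [hidx, hm₁, hm₂] at h
    refine Nat.eq_of_mul_eq_mul_left (pow_pos (Nat.pos_of_ne_zero hf0) 2) ?_
    rw [h]; ring
  rcases eq_or_ne p 2 with rfl | hp2
  · exact two_pow_sub_one_ne hn hsum
  have hp3 : 3 ≤ p := lt_of_le_of_ne hp.out.two_le (Ne.symm hp2)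
  have main : ∀ r : ℕ, r.Prime → r ∣ p ^ n - 1 → orderOf (p : ZMod r) = n → False := by
    intro r hr hdvd hord
    haveI := Fact.mk hr
    obtain ⟨hrn, hr4, ⟨s, hs⟩, ⟨x, hx, hxo, hcen⟩, g, hg⟩ :=
      prime_case D φ hker hexp hcard hn ⟨m₁, hm₁⟩ ⟨m₂, hm₂⟩ hidx hdvd hord
    obtain ⟨m, hm⟩ : ∃ m, n = 4 * m := ⟨n / 4, by omega⟩
    obtain ⟨rfl, rfl⟩ := primitive_case hp2 hm hrn hord hs
    subst hm
    obtain rfl : r = 5 := by omega
    refine three_four_case φ hexp hcard htr ?_ (g := g) (f := f) ?_ ?_ hx hxo hcen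
    · rwa [← index_eq_card_range φ hker]
    · rw [← index_eq_card_range φ hker, hg]
    · rw [← index_eq_card_range φ hker, hidx]; norm_num
  rcases Nat.lt_or_ge n 3 with hn3 | hn3
  · obtain rfl : n = 2 := by omega
    by_cases h2 : ∃ k, p + 1 = 2 ^ k
    · obtain ⟨k, hk⟩ := h2
      obtain rfl : p = 3 := mersenne_square hp.out hk hsum
      have hdvd : f ^ 2 * 8 ∣ 8 * 6 := by
        have := card_dvd hexp hcard φ.range
        rw [← index_eq_card_range φ hker, hidx] at this
        simpa [Fin.prod_univ_two] using this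
      have hf6 : f ^ 2 ∣ 6 := Nat.dvd_of_mul_dvd_mul_right (by norm_num : 0 < 8) (by rwa [mul_comm 6])
      have hf : f = 1 := by
        have hle : f ≤ 2 := by
          by_contra h
          have := Nat.pow_le_pow_left (show 3 ≤ f by omega) 2
          have := Nat.le_of_dvd (by norm_num) hf6
          omega
        interval_cases f <;> revert hf6 <;> norm_num
      subst hf
      exact three_two_case D φ hker hexp hcard htr (by rw [← index_eq_card_range φ hker, hidx]; norm_num)
    · obtain ⟨r, hr, hrd, hr2⟩ : ∃ r : ℕ, r.Prime ∧ r ∣ p + 1 ∧ r ≠ 2 := by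
        by_contra hne
        push Not at hne
        exact h2 ⟨_, Nat.eq_prime_pow_of_unique_prime_dvd (by omega) fun {d} hd hdd => hne d hd hdd⟩
      haveI := Fact.mk hr
      refine main r hr ?_ ?_
      · exact hrd.trans ⟨p - 1, by rw [← Nat.sq_sub_sq, one_pow]⟩
      · have hc : (p : ZMod r) = -1 := by
          have h0 : ((p + 1 : ℕ) : ZMod r) = 0 := (ZMod.natCast_eq_zero_iff _ _).2 hrd
          push_cast at h0
          exact eq_neg_of_add_eq_zero_left h0
        rw [hc, orderOf_neg_one, ringChar.eq (ZMod r) r, if_neg hr2]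
  · obtain ⟨r, hr, hrd, hord⟩ := H43.exists_primitive_prime hp3 hn3
    exact main r hr hrd hord

end H23.Three
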