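import Mathlib.NumberTheory.LegendreSymbol.QuadraticReciprocity
import Mathlib.RingTheory.Int.Basic
import Mathlib.Tactic

/-!
Number theory behind blocks with three characters: `p ^ n - 1` as a sum of two squares.
-/

set_option autoImplicit false

namespace H23.Three

/-- The odd part of a sum of two squares is `1` mod `4`. -/
theorem odd_part_sq_add_sq :
    ∀ (j : ℕ) {M a b : ℕ}, a ^ 2 + b ^ 2 = 2 ^ j * M → Odd M → M % 4 = 1 := by
  intro j
  induction j using Nat.strong_induction_on with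
  | _ j ih =>
    intro M a b h hM
    have sq_mod : ∀ x : ℕ, x ^ 2 % 4 = (x % 2) := by
      intro x
      rcases Nat.even_or_odd x with ⟨y, rfl⟩ | ⟨y, rfl⟩
      · have : (y + y) ^ 2 = 4 * y ^ 2 := by ring
        omega
      · have : (2 * y + 1) ^ 2 = 4 * (y ^ 2 + y) + 1 := by ring
        omega
    rcases j with _ | j
    · have := sq_mod a
      have := sq_mod b
      rw [Nat.odd_iff] at hM
      omega
    have h2 : a % 2 = b % 2 := by
      have := sq_mod a
      have := sq_mod b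
      rw [pow_succ' 2 j, mul_assoc] at h
      omega
    rcases le_total b a with hab | hab
    · obtain ⟨u, hu⟩ : ∃ u, a + b = 2 * u := ⟨(a + b) / 2, by omega⟩
      obtain ⟨w, hw⟩ : ∃ w, a = b + 2 * w := ⟨(a - b) / 2, by omega⟩
      have hu' : u = b + w := by omega
      subst hu' hw
      refine ih j (by omega) (a := b + w) (b := w) ?_ hM
      rw [pow_succ' 2 j] at h
      nlinarith
    · obtain ⟨w, hw⟩ : ∃ w, b = a + 2 * w := ⟨(b - a) / 2, by omega⟩
      subst hw
      refine ih j (by omega) (a := a + w) (b := w) ?_ hM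
      rw [pow_succ' 2 j] at h
      nlinarith

theorem two_pow_sub_one_ne {n a b : ℕ} (hn : 2 ≤ n) : a ^ 2 + b ^ 2 ≠ 2 ^ n - 1 := by
  intro h
  have h4 : 2 ^ n = 4 * 2 ^ (n - 2) := by
    rw [show (4 : ℕ) = 2 ^ 2 by norm_num, ← pow_add]; congr 1; omega
  have hpos : 0 < 2 ^ (n - 2) := by positivity
  have := odd_part_sq_add_sq 0 (M := 2 ^ n - 1) (by simpa using h) (Nat.odd_iff.2 (by omega))
  omega

theorem mersenne_square {p k a b : ℕ} (hp : p.Prime) (hk : p + 1 = 2 ^ k)
    (h : a ^ 2 + b ^ 2 = p ^ 2 - 1) : p = 3 := by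
  by_contra h3
  have hk3 : 3 ≤ k := by
    by_contra hlt
    have : k = 0 ∨ k = 1 ∨ k = 2 := by omega
    rcases this with rfl | rfl | rfl
    · have := hp.two_le; simp at hk; omega
    · have := hp.two_le; simp at hk; omega
    · simp at hk; omega
  obtain ⟨M, hM⟩ : ∃ M, p = 2 * M + 1 := ⟨(p - 1) / 2, by
    have h2 : 2 ^ k = 2 * 2 ^ (k - 1) := by rw [← pow_succ']; congr 1; omega
    omega⟩
  have h8 : 2 ^ k = 8 * 2 ^ (k - 3) := by
    rw [show (8 : ℕ) = 2 ^ 3 by norm_num, ← pow_add]; congr 1; omega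
  have hMo : M % 4 = 3 := by omega
  have heq : p ^ 2 - 1 = 2 ^ (k + 1) * M := by
    rw [pow_succ 2 k, ← hk, hM]
    have : (2 * M + 1) ^ 2 = (2 * M + 1 + 1) * 2 * M + 1 := by ring
    omega
  have := odd_part_sq_add_sq (k + 1) (h.trans heq) (Nat.odd_iff.2 (by omega))
  omega

theorem sq_of_coprime {a b c : ℕ} (hab : Nat.Coprime a b) (h : a * b = c ^ 2) :
    ∃ d, a = d ^ 2 :=
  exists_eq_pow_of_mul_eq_pow (by
    rw [Nat.isUnit_iff]
    exact hab) h

/-- `2 ^ n - 1` is never a sum of two squares and `p ^ n - 1 = r s²` with `r = n + 1`. -/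
theorem primitive_case {p n r m s : ℕ} [hp : Fact p.Prime] [hr : Fact r.Prime] (hp2 : p ≠ 2)
    (hn : n = 4 * m) (hrn : r = n + 1) (hord : orderOf (p : ZMod r) = n)
    (h : p ^ n - 1 = r * s ^ 2) : p = 3 ∧ m = 1 := by
  have hm0 : 0 < m := by
    rcases Nat.eq_zero_or_pos m with rfl | h'
    · have := hr.out.two_le; omega
    · exact h'
  obtain ⟨v, hv⟩ : ∃ v, v = p ^ m := ⟨_, rfl⟩
  have hv3 : 3 ≤ v := by
    have h3 : 3 ≤ p := lt_of_le_of_ne hp.out.two_le (Ne.symm hp2)
    rw [hv]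
    exact h3.trans (Nat.le_self_pow hm0.ne' p)
  have hvo : Odd v := hv ▸ (hp.out.odd_of_ne_two hp2).pow
  obtain ⟨k, hk⟩ := hvo
  obtain ⟨B, hB⟩ : ∃ B, B = 2 * k ^ 2 + 2 * k + 1 := ⟨_, rfl⟩
  have hv1 : v ^ 2 - 1 = 4 * k * (k + 1) := by
    have : v ^ 2 = 4 * k * (k + 1) + 1 := by rw [hk]; ring
    omega
  have hv2 : v ^ 2 + 1 = 2 * B := by rw [hk, hB]; ring
  have hfac : p ^ n - 1 = (v ^ 2 - 1) * (v ^ 2 + 1) := by
    rw [hn, mul_comm 4 m, pow_mul, ← hv, mul_comm (v ^ 2 - 1), ← Nat.sq_sub_sq]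
    ring_nf
  have hnd : ¬ r ∣ v ^ 2 - 1 := by
    intro hd
    have h1 : (p : ZMod r) ^ (m * 2) = 1 := by
      rw [← Nat.cast_pow, pow_mul, ← hv]
      have h0 : ((v ^ 2 - 1 : ℕ) : ZMod r) = 0 := (ZMod.natCast_eq_zero_iff _ _).2 hd
      rw [Nat.cast_sub (Nat.one_le_pow _ _ (by omega)), Nat.cast_one, sub_eq_zero] at h0
      exact h0
    have h2 := orderOf_dvd_of_pow_eq_one h1
    rw [hord, hn] at h2
    have := Nat.le_of_dvd (by omega) h2
    omega
  have hr2 : r ≠ 2 := by omega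
  have hrB : r ∣ B := by
    have hd : r ∣ (v ^ 2 - 1) * (2 * B) := by rw [← hv2, ← hfac, h]; exact dvd_mul_right _ _
    rcases hr.out.dvd_mul.1 hd with h' | h'
    · exact absurd h' hnd
    · exact (hr.out.dvd_mul.1 h').resolve_left fun h2 =>
        hr2 ((Nat.prime_dvd_prime_iff_eq hr.out Nat.prime_two).1 h2)
  obtain ⟨B', hB'⟩ := hrB
  have hcop : Nat.Coprime (8 * k * (k + 1)) B := by
    have hodd : Nat.Coprime 8 B := by
      rw [show (8 : ℕ) = 2 ^ 3 by norm_num]
      exact Nat.Coprime.pow_left _ ((Nat.prime_two.coprime_iff_not_dvd).2 (by omega))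
    have hc : Nat.Coprime (k * (k + 1)) B := by
      rw [hB, show 2 * k ^ 2 + 2 * k + 1 = 1 + (2 * (k * (k + 1))) by ring,
        Nat.coprime_add_mul_right_right]
      exact Nat.coprime_one_right _
    rw [mul_assoc]
    exact hodd.mul_left hc
  have hprod : 8 * k * (k + 1) * B' = s ^ 2 := by
    refine Nat.eq_of_mul_eq_mul_left hr.out.pos ?_
    rw [← h, hfac, hv1, hv2, hB']
    ring
  have hcop' : Nat.Coprime (8 * k * (k + 1)) B' :=
    Nat.Coprime.coprime_dvd_right ⟨r, by rw [hB', mul_comm]⟩ hcop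
  obtain ⟨b, hb⟩ := sq_of_coprime hcop' hprod
  obtain ⟨a, ha⟩ := sq_of_coprime hcop'.symm (by rw [mul_comm]; exact hprod)
  obtain ⟨d, hd⟩ : ∃ d, k * (k + 1) = 2 * d ^ 2 := by
    obtain ⟨b1, rfl⟩ : 2 ∣ b := Nat.prime_two.dvd_of_dvd_pow (n := 2) ⟨4 * k * (k + 1), by rw [← hb]; ring⟩
    obtain ⟨b2, rfl⟩ : 2 ∣ b1 := Nat.prime_two.dvd_of_dvd_pow (n := 2) ⟨k * (k + 1), by nlinarith⟩
    exact ⟨b2, by nlinarith⟩
  rcases Nat.even_or_odd k with ⟨k', hk'⟩ | ⟨k', hk'⟩
  · -- `v = 4 c ^ 2 + 1` is impossible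
    exfalso
    have hc2 : Nat.Coprime k' (k + 1) := by
      rw [hk', show k' + k' + 1 = 1 + 2 * k' by ring, Nat.coprime_add_mul_right_right]
      exact Nat.coprime_one_right _
    have hpr : k' * (k + 1) = d ^ 2 := by nlinarith
    obtain ⟨c, hc⟩ := sq_of_coprime hc2 hpr
    obtain ⟨a', ha'⟩ := sq_of_coprime hc2.symm (by rw [mul_comm]; exact hpr)
    have hmo : Odd m := by
      rcases Nat.even_or_odd m with ⟨i, hi⟩ | h'
      · exfalso
        have hu : v = (p ^ i) ^ 2 := by rw [hv, ← pow_mul]; congr 1; omega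
        obtain ⟨u, hu'⟩ : ∃ u, u = p ^ i := ⟨_, rfl⟩
        rw [← hu'] at hu
        -- `u² = 4c² + 1`
        have h1 : u ^ 2 = (2 * c) ^ 2 + 1 := by nlinarith
        have h2 : 2 * c < u := by nlinarith
        have h3 : (2 * c + 1) ^ 2 ≤ u ^ 2 := Nat.pow_le_pow_left (by omega) 2
        have hc0 : c = 0 := by nlinarith
        subst hc0
        omega
      · exact h'
    have hsqr : ¬ IsSquare (r : ZMod p) := by
      haveI := hp
      rw [← ZMod.exists_sq_eq_prime_iff_of_mod_four_eq_one (p := r) (q := p) (by omega) hp2]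
      rintro ⟨y, hy⟩
      have hy0 : y ≠ 0 := by
        intro h0
        rw [h0, mul_zero] at hy
        have := hord
        rw [hy, orderOf_zero] at this
        omega
      have h1 : (p : ZMod r) ^ (n / 2) = 1 := by
        rw [hy, ← sq, ← pow_mul, show 2 * (n / 2) = r - 1 by omega]
        exact ZMod.pow_card_sub_one_eq_one hy0
      have := Nat.le_of_dvd (by omega) (hord ▸ orderOf_dvd_of_pow_eq_one h1)
      omega
    have h2r : IsSquare ((2 : ZMod p) * r) := by
      have h1 : ((v ^ 2 + 1 : ℕ) : ZMod p) = 1 := by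
        rw [hv, Nat.cast_add, Nat.cast_pow, Nat.cast_pow, ZMod.natCast_self, zero_pow hm0.ne',
          zero_pow two_ne_zero, zero_add, Nat.cast_one]
      rw [hv2, hB', ha] at h1
      push_cast at h1
      have ha0 : (a : ZMod p) ≠ 0 := fun h0 => by simp [h0] at h1
      exact ⟨(a : ZMod p)⁻¹, by field_simp; linear_combination h1⟩
    have hp8 : p % 8 = 3 ∨ p % 8 = 5 := by
      have h2 : ¬ IsSquare (2 : ZMod p) := fun h2 => by
        apply hsqr
        obtain ⟨y, hy⟩ := h2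
        obtain ⟨z, hz⟩ := h2r
        have hy0 : y ≠ 0 := by
          intro h0
          rw [h0, mul_zero] at hy
          have : ((2 : ℕ) : ZMod p) = 0 := by exact_mod_cast hy
          rw [ZMod.natCast_eq_zero_iff] at this
          exact hp2 ((Nat.prime_dvd_prime_iff_eq hp.out Nat.prime_two).1 this)
        refine ⟨z / y, ?_⟩
        rw [hy] at hz
        field_simp
        linear_combination hz
      rw [ZMod.exists_sq_eq_two_iff hp2] at h2
      have := Nat.odd_iff.1 (hp.out.odd_of_ne_two hp2)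
      omega
    obtain ⟨i, hi⟩ := hmo
    have hv8 : v % 8 = p % 8 := by
      have hsq : p ^ 2 % 8 = 1 := by
        rw [Nat.pow_mod]
        rcases hp8 with h' | h' <;> rw [h']
      rw [hv, hi, pow_succ, pow_mul, Nat.mul_mod, Nat.pow_mod, hsq, one_pow]
      simp
    have hc' : Odd c := by
      rcases Nat.even_or_odd c with ⟨e, rfl⟩ | h'
      · have : (e + e) ^ 2 = 4 * e ^ 2 := by ring
        omega
      · exact h'
    obtain ⟨e, rfl⟩ := hc'
    have h1 : (2 * e + 1) ^ 2 = 8 * (e * (e + 1) / 2) + 1 := by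
      have h2 : 2 ∣ e * (e + 1) := even_iff_two_dvd.1 (Nat.even_mul_succ_self e)
      have : (2 * e + 1) ^ 2 = 4 * (e * (e + 1)) + 1 := by ring
      omega
    have ha2 : a' ^ 2 % 8 = 0 ∨ a' ^ 2 % 8 = 1 ∨ a' ^ 2 % 8 = 4 := by
      rw [Nat.pow_mod]
      have : a' % 8 < 8 := Nat.mod_lt _ (by norm_num)
      interval_cases a' % 8 <;> simp
    omega
  · -- `v = 4 g ^ 2 - 1`
    obtain ⟨k1, hk1⟩ : ∃ k1, k1 = k' + 1 := ⟨_, rfl⟩
    have hc2 : Nat.Coprime k k1 := by
      rw [Nat.coprime_comm, show k = k1 + k' by omega, Nat.coprime_self_add_right, hk1,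
        Nat.coprime_comm, Nat.coprime_self_add_right]
      exact Nat.coprime_one_right _
    have hpr : k1 * k = d ^ 2 := by nlinarith
    obtain ⟨g, hg⟩ := sq_of_coprime hc2.symm hpr
    have hg1 : 1 ≤ g := by
      rcases Nat.eq_zero_or_pos g with rfl | h'
      · simp at hg; omega
      · exact h'
    have hprod : (2 * g - 1) * (2 * g + 1) = p ^ m := by
      rw [← hv, mul_comm, ← Nat.sq_sub_sq, hk]
      have : (2 * g) ^ 2 = 4 * g ^ 2 := by ring
      omega
    obtain ⟨i, -, hi⟩ := (Nat.dvd_prime_pow hp.out).1 (Dvd.intro _ hprod)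
    obtain ⟨j, -, hj⟩ := (Nat.dvd_prime_pow hp.out).1 (Dvd.intro_left _ hprod)
    have hi0 : i = 0 := by
      by_contra hi0
      have hj0 : j ≠ 0 := fun h0 => by rw [h0, pow_zero] at hj; omega
      have h1 : p ∣ 2 * g - 1 := hi ▸ dvd_pow_self p hi0
      have h2 : p ∣ 2 * g + 1 := hj ▸ dvd_pow_self p hj0
      have h3 := Nat.dvd_sub h2 h1
      rw [show 2 * g + 1 - (2 * g - 1) = 2 by omega] at h3
      exact hp2 ((Nat.prime_dvd_prime_iff_eq hp.out Nat.prime_two).1 h3)
    subst hi0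
    have hg' : g = 1 := by simp at hi; omega
    subst hg'
    have hp3 : p ∣ 3 := by
      have h3 : p ^ m = 3 := by simpa using hprod.symm
      exact h3 ▸ dvd_pow_self p hm0.ne'
    have hp3' := (Nat.prime_dvd_prime_iff_eq hp.out Nat.prime_three).1 hp3
    subst hp3'
    have h3 : 3 ^ m = 3 ^ 1 := by simpa using hprod.symm
    exact ⟨rfl, Nat.pow_right_injective (le_refl 2 |>.trans (by norm_num)) h3⟩

end H23.Three
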