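import Cfsg.Agent.H23.Three.Ambient
import Cfsg.Agent.H23.Three.Main
import Cfsg.Agent.H20.InducedCentre

/-!
Multiplying a function on a subgroup by a linear character of `D` on the `p`-parts.
-/

set_option autoImplicit false
set_option linter.unusedSectionVars false
set_option linter.style.haveILetI false

open Cfsg Finset
open scoped ComplexConjugate

namespace H23.Three

universe u

variable {G : Type u} [Group G] [Fintype G] {p : ℕ} [hp : Fact p.Prime]

open Classical in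
/-- `ψ` twisted by `l` on the sections of `D`, zero elsewhere. -/
noncomputable def sec (p : ℕ) [Fact p.Prime] (D H : Subgroup G) (l : D →* ℂˣ) (ψ : H → ℂ) (x : H) : ℂ :=
  if h : H20.pPart p (x : G) ∈ D then (l ⟨_, h⟩ : ℂ) * ψ x else 0

/-- `l` pulled back to `D ⊓ H`. -/
noncomputable def secLin (D H : Subgroup G) (hDH : D ≤ H) (l : D →* ℂˣ) : D.subgroupOf H →* ℂˣ :=
  l.comp (Subgroup.subgroupOfEquivOfLe hDH).toMonoidHom

theorem sec_eq_secFun (D H : Subgroup G) [Fintype H] (hDH : D ≤ H) (l : D →* ℂˣ) (ψ : H → ℂ) :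
    sec p D H l ψ = H21.secFun p (D.subgroupOf H) (linIrr (secLin D H hDH l) : _ → ℂ) ψ := by
  classical
  funext x
  have hx : H20.pPart p (x : G) = ((H20.pPart p x : H) : G) := H20.pPart_coe x
  by_cases h : H20.pPart p x ∈ D.subgroupOf H
  · have h' : H20.pPart p (x : G) ∈ D := hx ▸ Subgroup.mem_subgroupOf.1 h
    rw [sec, dif_pos h', H21.secFun, dif_pos h]
    show _ = ((l (Subgroup.subgroupOfEquivOfLe hDH ⟨_, h⟩) : ℂˣ) : ℂ) * _
    congr 1
    exact congrArg (fun u => ((l u : ℂˣ) : ℂ)) (Subtype.ext hx)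
  · have h' : H20.pPart p (x : G) ∉ D := fun h' => h (Subgroup.mem_subgroupOf.2 (hx ▸ h'))
    rw [sec, dif_neg h', H21.secFun, dif_neg h]

theorem sec_resTo (D : Subgroup G) {H K : Subgroup G} (h : H ≤ K) (l : D →* ℂˣ) (ψ : K → ℂ) :
    H13.resTo h (sec p D K l ψ) = sec p D H l (H13.resTo h ψ) := rfl

theorem sec_smul (D H : Subgroup G) (l : D →* ℂˣ) (r : ℂ) (ψ : H → ℂ) :
    sec p D H l (r • ψ) = r • sec p D H l ψ := by
  classical
  funext x
  simp only [sec, Pi.smul_apply, smul_eq_mul]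
  split_ifs <;> ring

theorem sec_regular (D H : Subgroup G) (l : D →* ℂˣ) (ψ : H → ℂ) {x : H}
    (hx : ¬ p ∣ orderOf x) : sec p D H l ψ x = ψ x := by
  classical
  have h1 : H20.pPart p (x : G) = 1 := H20.pPart_eq_one_iff.2 (by rwa [Subgroup.orderOf_coe])
  have h2 : H20.pPart p (x : G) ∈ D := by rw [h1]; exact D.one_mem
  rw [sec, dif_pos h2, show (⟨_, h2⟩ : D) = 1 from Subtype.ext h1, map_one, Units.val_one, one_mul]

theorem pPart_eq_of_mem {D : Subgroup G} (hD : IsPGroup p D) {g : G} (hg : g ∈ D) :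
    H20.pPart p g = g := by
  obtain ⟨j, hj⟩ := IsPGroup.iff_orderOf.1 hD ⟨g, hg⟩
  rw [Subgroup.orderOf_mk] at hj
  exact (H20.isPPart_unique' (p := p) (g := g) (x := g) (y := 1) (mul_one g) (Commute.one_right g)
    ⟨j, hj⟩ (by rw [orderOf_one]; exact hp.out.not_dvd_one)).1.symm

theorem sec_mem {D H : Subgroup G} (hD : IsPGroup p D) (l : D →* ℂˣ) (ψ : H → ℂ) {x : H}
    (hx : (x : G) ∈ D) : sec p D H l ψ x = (l ⟨x, hx⟩ : ℂ) * ψ x := by
  classical
  have h1 := pPart_eq_of_mem (p := p) hD hx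
  rw [sec, dif_pos (h1.symm ▸ hx)]
  exact congrArg (fun u => ((l u : ℂˣ) : ℂ) * ψ x) (Subtype.ext h1)

theorem sec_cancel {D H : Subgroup G} (l : D →* ℂˣ) {ψ ψ' : H → ℂ}
    (hv : ∀ x : H, H20.pPart p (x : G) ∉ D → ψ x = 0)
    (hv' : ∀ x : H, H20.pPart p (x : G) ∉ D → ψ' x = 0)
    (h : sec p D H l ψ = sec p D H l ψ') : ψ = ψ' := by
  classical
  funext x
  by_cases hx : H20.pPart p (x : G) ∈ D
  · have h1 := congrFun h x
    simp only [sec, dif_pos hx] at h1
    exact mul_left_cancel₀ (Units.ne_zero _) h1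
  · rw [hv x hx, hv' x hx]

/-- An invariant twist of a character trivial on `D` and vanishing off its sections. -/
theorem isIrr_sec {D H : Subgroup G} [D.Normal] [Fintype H] (hD : IsPGroup p D) (hDH : D ≤ H)
    (l : D →* ℂˣ)
    (hl : ∀ g ∈ H, ∀ u : D, l ⟨g * u * g⁻¹, (inferInstance : D.Normal).conj_mem u u.2 g⟩ = l u)
    (ψ : IrrCharacter H) (hψD : ∀ u : H, (u : G) ∈ D → ∀ x, (ψ : H → ℂ) (u * x) = (ψ : H → ℂ) x)
    (hvan : ∀ x : H, H20.pPart p (x : G) ∉ D → (ψ : H → ℂ) x = 0) :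
    IsIrrCharacter H (sec p D H l (ψ : H → ℂ)) := by
  rw [sec_eq_secFun D H hDH]
  refine isIrr_secFun_lin (hD.comap_of_injective H.subtype H.subtype_injective)
    (secLin D H hDH l) (fun g u => ?_) ψ (fun u hu x => hψD u hu x) fun x hx => hvan x fun h =>
      hx (Subgroup.mem_subgroupOf.2 (by rwa [← H20.pPart_coe]))
  exact (congrArg l (Subtype.ext rfl)).trans (hl g g.2 (Subgroup.subgroupOfEquivOfLe hDH u))

/-- Transfer of an irreducible character of a subgroup to the subgroup of a larger one. -/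
noncomputable def liftIrr {C H : Subgroup G} (h : C ≤ H) (θ : IrrCharacter C) :
    IrrCharacter (C.subgroupOf H) :=
  ⟨(θ : C → ℂ) ∘ Subgroup.subgroupOfEquivOfLe h, H13.isIrrCharacter_comp_equiv _ θ.2⟩

theorem classInner_lift {C H : Subgroup G} [Fintype C] [Fintype H] [Fintype (C.subgroupOf H)]
    (h : C ≤ H) (θ : IrrCharacter C) (ψ : H → ℂ) :
    classInner (fun c : C.subgroupOf H => ψ c) (liftIrr h θ : C.subgroupOf H → ℂ) =
      classInner (H13.resTo h ψ) (θ : C → ℂ) := by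
  rw [show (fun c : C.subgroupOf H => ψ c) = H13.resTo h ψ ∘ Subgroup.subgroupOfEquivOfLe h from
    funext fun c => rfl]
  exact H13.classInner_comp_equiv _ _ _

theorem over_lift {C H : Subgroup G} [C.Normal] [Fintype C] [Fintype H] [Fintype (C.subgroupOf H)]
    (h : C ≤ H) (θ : IrrCharacter C) (ψ : IrrCharacter H) :
    Over (C.subgroupOf H) (liftIrr h θ) ψ ↔ classInner (H13.resTo h (ψ : H → ℂ)) (θ : C → ℂ) ≠ 0 := by
  rw [Over, classInner_lift h θ]

theorem twist_lift {C H : Subgroup G} [C.Normal] [Fintype C] [Fintype H] (h : C ≤ H)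
    (θ : IrrCharacter C) (hH : H ≤ H13.inertia C (θ : C → ℂ)) (t : H) :
    H13.twist (C.subgroupOf H) t (liftIrr h θ : C.subgroupOf H → ℂ) =
      (liftIrr h θ : C.subgroupOf H → ℂ) := by
  funext n
  exact congrFun (H13.mem_inertia C |>.1 (hH t.2)) (Subgroup.subgroupOfEquivOfLe h n)

/-- A constituent trivial on `D` of multiplicity `e`: values on `D`. -/
theorem trivial_of_resTo {C H D : Subgroup G} (hCH : C ≤ H) (hDC : D ≤ C) {θ : C → ℂ}
    {ψ : H → ℂ} {r : ℂ} (hres : H13.resTo hCH ψ = r • θ)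
    (hker : ∀ z : C, (z : G) ∈ D → θ z = θ 1) : ∀ z : H, (z : G) ∈ D → ψ z = ψ 1 := by
  intro z hz
  have h1 := congrFun hres ⟨z, hDC hz⟩
  have h2 := congrFun hres 1
  simp only [H13.resTo_apply, Pi.smul_apply, smul_eq_mul] at h1 h2
  rw [hker ⟨z, hDC hz⟩ hz] at h1
  exact h1.trans (h2.symm.trans rfl)

end H23.Three
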