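import Cfsg.Agent.H23.Three.Main
import Cfsg.Agent.H23.Three.Sec
import Cfsg.Agent.H15.FullyRamified
import Cfsg.Agent.H21.Reynolds
import Cfsg.Agent.H22.Supplement
import Mathlib.Algebra.Group.Action.End
import Mathlib.GroupTheory.FiniteAbelian.Duality
import Mathlib.RingTheory.RootsOfUnity.AlgebraicallyClosed
import Mathlib.Analysis.Complex.Polynomial.Basic

/-!
A block with three characters and two Brauer characters has no normal elementary abelian defect
group of rank at least two.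
-/

set_option autoImplicit false
set_option linter.unusedSectionVars false
set_option linter.style.haveILetI false

open Cfsg Finset
open scoped ComplexConjugate

namespace H23.Three

universe u

variable {M : Ideal AlgInt} [hMp : M.IsPrime] {G : Type u} [Group G] [Fintype G]
  {p : ℕ} [hp : Fact p.Prime] {D : Subgroup G} [hDn : D.Normal]

theorem exists_irr_over_normal (N : Subgroup G) [N.Normal] [Fintype N] (θ : IrrCharacter N) :
    ∃ χ : IrrCharacter G, classInner (fun n : N => (χ : G → ℂ) n) (θ : N → ℂ) ≠ 0 :=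
  H22.exists_over θ

/-- The `p`-part of an induced degree. -/
theorem charDegree_indFun {T : Subgroup G} [Fintype T] {ψ : IrrCharacter T} {χ : IrrCharacter G}
    (h : indFun T (ψ : T → ℂ) = (χ : G → ℂ)) :
    charDegree (χ : G → ℂ) = T.index * charDegree (ψ : T → ℂ) := by
  have h1 := congrFun h 1
  rw [H13.indFun_apply_one, H22.irr_one_eq_charDegree, H22.irr_one_eq_charDegree, ← Nat.cast_mul,
    Nat.cast_inj] at h1
  exact h1.symm

theorem charDegree_mult {C H : Subgroup G} (h : C ≤ H) {θ : IrrCharacter C} {ψ : IrrCharacter H}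
    {e : ℕ} (hres : H13.resTo h (ψ : H → ℂ) = (e : ℂ) • (θ : C → ℂ)) :
    charDegree (ψ : H → ℂ) = e * charDegree (θ : C → ℂ) := by
  haveI := Fintype.ofFinite C
  haveI := Fintype.ofFinite H
  have h1 : (ψ : H → ℂ) 1 = (e : ℂ) * (θ : C → ℂ) 1 := congrFun hres 1
  rw [H22.irr_one_eq_charDegree, H22.irr_one_eq_charDegree, ← Nat.cast_mul, Nat.cast_inj] at h1
  exact h1

set_option maxHeartbeats 1000000 in
theorem false_of_rank_two (hM : IsPModular p M) {B : Set (IrrCharacter G)} (hB : IsPBlock M B)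
    (hD : IsDefectGroup p M B D) (hab : ∀ a ∈ D, ∀ b ∈ D, a * b = b * a) {n : ℕ}
    (hexp : ∀ x ∈ D, x ^ p = 1) (hcard : Nat.card D = p ^ n) (hn : 2 ≤ n) (hk : Nat.card B = 3)
    (hl : blockRank p B = 2) : False := by
  classical
  haveI : ∀ R : Subgroup G, Fintype R := fun R => Fintype.ofFinite R
  obtain ⟨L⟩ := exists_below hM hB hD hab
  obtain ⟨c, hc, θ, hθc, hker, hdeg, huniq, hmem, hover⟩ := L
  have hDp : IsPGroup p D := IsPGroup.of_card hcard
  have hDC : D ≤ Subgroup.centralizer (D : Set G) := H19.AbelianLocal.le_centralizer hab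
  set Z := D.subgroupOf (Subgroup.centralizer (D : Set G)) with hZ
  have hZc : Z ≤ Subgroup.center (Subgroup.centralizer (D : Set G)) := fun z hz =>
    Subgroup.mem_center_iff.2 fun x => Subtype.ext (x.2 (z : G) hz).symm
  have hZD : Nat.card Z = Nat.card D := Nat.card_congr (Subgroup.subgroupOfEquivOfLe hDC).toEquiv
  have hθD : ∀ u : Subgroup.centralizer (D : Set G), (u : G) ∈ D → ∀ x,
      (θ : Subgroup.centralizer (D : Set G) → ℂ) (u * x) = (θ : Subgroup.centralizer (D : Set G) → ℂ) x := fun u hu x =>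
    H19.CentralRank.apply_mul_of_trivial hZc θ (fun z hz => hker z hz) hu x
  have hθv : ∀ x : Subgroup.centralizer (D : Set G), H20.pPart p (x : G) ∉ D →
      (θ : Subgroup.centralizer (D : Set G) → ℂ) x = 0 := fun x hx =>
    H19.CentralDefect.apply_eq_zero_of_pPart_notMem Z θ (fun z hz => hker z hz)
      (by rw [hZD]; exact hdeg) fun h => hx (by rw [H20.pPart_coe]; exact h)
  have hθtw : ∀ (g : G) (z : Subgroup.centralizer (D : Set G)), (z : G) ∈ D →
      H13.twist (Subgroup.centralizer (D : Set G)) g (θ : Subgroup.centralizer (D : Set G) → ℂ) z = (θ : Subgroup.centralizer (D : Set G) → ℂ) 1 :=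
    fun g z hz => hker _ (hDn.conj_mem _ hz g)
  have h1reg : ¬ p ∣ orderOf (1 : Subgroup.centralizer (D : Set G)) := by
    rw [orderOf_one]; exact hp.out.not_dvd_one
  -- the twisted members
  have hlC : ∀ (l : D →* ℂˣ), ∀ g ∈ Subgroup.centralizer (D : Set G), ∀ u : D,
      l ⟨g * u * g⁻¹, hDn.conj_mem u u.2 g⟩ = l u := fun l g hg u => congrArg l (Subtype.ext (by
    show g * (u : G) * g⁻¹ = u
    rw [← Subgroup.mem_centralizer_iff.1 hg u u.2, mul_inv_cancel_right]))
  let η : (D →* ℂˣ) → IrrCharacter (Subgroup.centralizer (D : Set G)) := fun l =>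
    ⟨_, isIrr_sec hDp hDC l (hlC l) θ hθD hθv⟩
  have hηval : ∀ l x, (η l : Subgroup.centralizer (D : Set G) → ℂ) x =
      sec p D (Subgroup.centralizer (D : Set G)) l (θ : Subgroup.centralizer (D : Set G) → ℂ) x := fun l x => rfl
  have hηc : ∀ l, η l ∈ c := fun l =>
    mem_of_regular_eq hM hc hθc fun y hy => sec_regular D _ l _ hy
  have hη1 : ∀ l, (η l : Subgroup.centralizer (D : Set G) → ℂ) 1 = (θ : Subgroup.centralizer (D : Set G) → ℂ) 1 := fun l => sec_regular D _ l _ h1reg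
  have hηD : ∀ l (u : D), (η l : Subgroup.centralizer (D : Set G) → ℂ) ⟨u, hDC u.2⟩ = (l u : ℂ) * (θ : Subgroup.centralizer (D : Set G) → ℂ) 1 := by
    intro l u
    rw [hηval, sec_mem hDp l _ (x := (⟨u, hDC u.2⟩ : Subgroup.centralizer (D : Set G))) u.2,
      hker ⟨u, hDC u.2⟩ u.2]
  have hθ0 : (θ : Subgroup.centralizer (D : Set G) → ℂ) 1 ≠ 0 := H12.irr_apply_one_ne_zero θ
  have hηnt : ∀ l : D →* ℂˣ, l ≠ 1 → ∀ χ : IrrCharacter G,
      classInner (fun x : Subgroup.centralizer (D : Set G) => (χ : G → ℂ) x) (η l : Subgroup.centralizer (D : Set G) → ℂ) ≠ 0 →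
        χ ∈ B ∧ ¬ ∀ u ∈ D, (χ : G → ℂ) u = (χ : G → ℂ) 1 := by
    intro l hl1 χ hχ
    refine ⟨hmem χ _ (hηc l) hχ, fun htriv => hl1 (MonoidHom.ext fun u => Units.ext ?_)⟩
    have h1 := H24.constituent_apply_eq (H12.IsCharacter.res (H12.isCharacter_irr χ) _) _ hχ
      (c := ⟨u, hDC u.2⟩) (htriv u u.2)
    rw [hηD, hη1] at h1
    simpa using (mul_eq_right₀ hθ0).1 h1
  -- the dual
  letI : CommGroup D := { (inferInstance : Group D) with
    mul_comm := fun a b => Subtype.ext (hab a a.2 b b.2) }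
  haveI : NeZero ((Monoid.exponent D : ℕ) : ℂ) :=
    ⟨Nat.cast_ne_zero.2 Monoid.exponent_ne_zero_of_finite⟩
  have hV : Nat.card (D →* ℂˣ) = p ^ n :=
    (CommGroup.card_monoidHom_of_hasEnoughRootsOfUnity D ℂ).trans hcard
  haveI : Finite (D →* ℂˣ) := Nat.finite_of_card_ne_zero (by rw [hV]; exact pow_ne_zero _ hp.out.ne_zero)
  have hV1 : 1 < Nat.card (D →* ℂˣ) := hV ▸ Nat.one_lt_pow (by omega) hp.out.one_lt
  obtain ⟨l₀, hl₀⟩ : ∃ l : D →* ℂˣ, l ≠ 1 := by
    haveI := (Finite.one_lt_card_iff_nontrivial).1 hV1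
    exact exists_ne 1
  -- counting the members trivial on `D`
  obtain ⟨χ₃, hχ₃⟩ := exists_irr_over_normal _ (η l₀)
  obtain ⟨hχ₃B, hχ₃nt⟩ := hηnt l₀ hl₀ χ₃ hχ₃
  have hU := blockRank_le_trivial hM hB D hDp hab
  rw [hl] at hU
  let Bf := Finset.univ.filter fun χ : IrrCharacter G => χ ∈ B
  have hBf : Bf.card = 3 := by
    rw [← hk, Nat.card_eq_fintype_card, Fintype.card_subtype]
  have hsplit := Bf.card_filter_add_card_filter_not
    (fun χ : IrrCharacter G => ∀ u ∈ D, (χ : G → ℂ) u = (χ : G → ℂ) 1)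
  have hUcard : Nat.card {χ : IrrCharacter G // χ ∈ B ∧ ∀ u ∈ D, (χ : G → ℂ) u = (χ : G → ℂ) 1} =
      (Bf.filter fun χ : IrrCharacter G => ∀ u ∈ D, (χ : G → ℂ) u = (χ : G → ℂ) 1).card := by
    rw [Nat.card_eq_fintype_card, Fintype.card_subtype, Finset.filter_filter]
  have h3 : χ₃ ∈ Bf.filter fun χ : IrrCharacter G =>
      ¬ ∀ u ∈ D, (χ : G → ℂ) u = (χ : G → ℂ) 1 :=
    Finset.mem_filter.2 ⟨Finset.mem_filter.2 ⟨Finset.mem_univ _, hχ₃B⟩, hχ₃nt⟩
  have h3pos := Finset.card_pos.2 ⟨_, h3⟩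
  have hnt_eq : ∀ χ ∈ B, (¬ ∀ u ∈ D, (χ : G → ℂ) u = (χ : G → ℂ) 1) → χ = χ₃ := fun χ hχ h =>
    (Finset.card_le_one.1 (show (Bf.filter fun χ : IrrCharacter G =>
      ¬ ∀ u ∈ D, (χ : G → ℂ) u = (χ : G → ℂ) 1).card ≤ 1 by omega)) χ
      (Finset.mem_filter.2 ⟨Finset.mem_filter.2 ⟨Finset.mem_univ _, hχ⟩, h⟩) χ₃ h3
  have hU2 : Nat.card {χ : IrrCharacter G // χ ∈ B ∧ ∀ u ∈ D, (χ : G → ℂ) u = (χ : G → ℂ) 1} = 2 := by
    omega
  -- constituents of `χ₃`
  have hη₃ : ∀ l : D →* ℂˣ, l ≠ 1 →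
      classInner (fun x : Subgroup.centralizer (D : Set G) => (χ₃ : G → ℂ) x) (η l : Subgroup.centralizer (D : Set G) → ℂ) ≠ 0 := by
    intro l hl1
    obtain ⟨χ, hχ⟩ := exists_irr_over_normal _ (η l)
    obtain ⟨h1, h2⟩ := hηnt l hl1 χ hχ
    rwa [← hnt_eq χ h1 h2]
  have hθtriv : ∀ χ : IrrCharacter G,
      classInner (fun x : Subgroup.centralizer (D : Set G) => (χ : G → ℂ) x) (θ : Subgroup.centralizer (D : Set G) → ℂ) ≠ 0 →
        χ ∈ B ∧ ∀ u ∈ D, (χ : G → ℂ) u = (χ : G → ℂ) 1 := by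
    intro χ hχ
    refine ⟨hmem χ θ hθc hχ, Classical.byContradiction fun hnt => ?_⟩
    have h := hη₃ l₀ hl₀
    rw [← hnt_eq χ (hmem χ θ hθc hχ) hnt] at h
    obtain ⟨g, hg⟩ : ∃ g : G,
        H13.twist (Subgroup.centralizer (D : Set G)) g (θ : Subgroup.centralizer (D : Set G) → ℂ) = (η l₀ : Subgroup.centralizer (D : Set G) → ℂ) := by
      by_contra hne
      push Not at hne
      exact h (H13.classInner_res_eq_zero_of_not_conj _ χ.2 θ.2 (η l₀).2 hχ hne)
    refine hl₀ (MonoidHom.ext fun u => Units.ext ?_)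
    have h1 := congrFun hg ⟨u, hDC u.2⟩
    rw [hθtw g _ u.2, hηD] at h1
    simpa using (mul_eq_right₀ hθ0).1 h1.symm
  -- regular values determine `θ` among its conjugates
  have hfixθ : ∀ g : G, (∀ y : Subgroup.centralizer (D : Set G), ¬ p ∣ orderOf y →
      H13.twist (Subgroup.centralizer (D : Set G)) g (θ : Subgroup.centralizer (D : Set G) → ℂ) y = (θ : Subgroup.centralizer (D : Set G) → ℂ) y) →
      g ∈ H13.inertia (Subgroup.centralizer (D : Set G)) (θ : Subgroup.centralizer (D : Set G) → ℂ) := by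
    intro g hg
    have h1 := huniq (H13.twistIrr _ g θ) (mem_of_regular_eq hM hc hθc hg) fun z hz => by
      rw [H13.twistIrr_apply, hθtw g z hz, hθtw g 1 D.one_mem]
    exact (H13.mem_inertia _).2 (congrArg Subtype.val h1)
  -- the inertia group
  obtain ⟨T, hT⟩ : ∃ T, T = H13.inertia (Subgroup.centralizer (D : Set G)) (θ : Subgroup.centralizer (D : Set G) → ℂ) := ⟨_, rfl⟩
  have hCT : Subgroup.centralizer (D : Set G) ≤ T :=
    hT ▸ H13.le_inertia _ (H12.irr_isClassFunction θ)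
  haveI : ∀ R : Subgroup T, Fintype R := fun R => Fintype.ofFinite R
  set CT := (Subgroup.centralizer (D : Set G)).subgroupOf T with hCTdef
  haveI : CT.Normal := Subgroup.Normal.subgroupOf inferInstance T
  have hinvT : ∀ t : T, H13.twist CT t (liftIrr hCT θ : CT → ℂ) = (liftIrr hCT θ : CT → ℂ) :=
    twist_lift hCT θ hT.le
  have hcountT : Nat.card {ψ : IrrCharacter T // Over CT (liftIrr hCT θ) ψ} = 2 := by
    rw [← hU2]
    have hirr : ∀ ψ : {ψ : IrrCharacter T // Over CT (liftIrr hCT θ) ψ},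
        IsIrrCharacter G (indFun T (ψ.1 : T → ℂ)) ∧
        classInner (fun x : Subgroup.centralizer (D : Set G) => indFun T (ψ.1 : T → ℂ) x)
          (θ : Subgroup.centralizer (D : Set G) → ℂ) ≠ 0 := by
      intro ψ
      have hne := (over_lift hCT θ ψ.1).1 ψ.2
      obtain ⟨h1, h2⟩ := H13.clifford_correspondence _ θ.2 hT hCT ψ.1.2 hne
      exact ⟨h1, by rw [h2]; exact hne⟩
    refine Nat.card_eq_of_bijective (fun ψ =>
      ⟨⟨_, (hirr ψ).1⟩, hθtriv ⟨_, (hirr ψ).1⟩ (hirr ψ).2⟩) ⟨fun ψ ψ' h => ?_, fun χ => ?_⟩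
    · exact Subtype.ext (Subtype.ext (H13.clifford_correspondence_inj _ θ.2 hT hCT ψ.1.2 ψ'.1.2
        ((over_lift hCT θ ψ.1).1 ψ.2) ((over_lift hCT θ ψ'.1).1 ψ'.2)
        (congrArg (fun χ => (χ.1 : G → ℂ)) h)))
    · obtain ⟨ψ, hψ, hne, heq⟩ := H13.clifford_correspondence_exists _ θ.2 hT hCT χ.1.2
        (hover χ.1 χ.2.1 χ.2.2)
      exact ⟨⟨⟨ψ, hψ⟩, (over_lift hCT θ ⟨ψ, hψ⟩).2 hne⟩, Subtype.ext (Subtype.ext heq)⟩
  obtain ⟨Dt⟩ := exists_two CT (liftIrr hCT θ) hinvT hcountT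
  have hresT : ∀ {χ : IrrCharacter T} {e : ℕ},
      (fun x : CT => (χ : T → ℂ) x) = (e : ℂ) • (liftIrr hCT θ : CT → ℂ) →
      H13.resTo hCT (χ : T → ℂ) = (e : ℂ) • (θ : Subgroup.centralizer (D : Set G) → ℂ) := by
    intro χ e h
    funext x
    have := congrFun h ⟨⟨x, hCT x.2⟩, x.2⟩
    exact this
  -- exponents
  have hcardCT : Nat.card CT = Nat.card (Subgroup.centralizer (D : Set G)) :=
    Nat.card_congr (Subgroup.subgroupOfEquivOfLe hCT).toEquiv
  have hexpo : ∀ {χ : IrrCharacter T} {e : ℕ}, 0 < e → Over CT (liftIrr hCT θ) χ →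
      (fun x : CT => (χ : T → ℂ) x) = (e : ℂ) • (liftIrr hCT θ : CT → ℂ) →
      e.factorization p = CT.index.factorization p := by
    intro χ e he hov h
    have hne := (over_lift hCT θ χ).1 hov
    obtain ⟨h1, h2⟩ := H13.clifford_correspondence _ θ.2 hT hCT χ.2 hne
    obtain ⟨hχB, -⟩ := hθtriv ⟨_, h1⟩ (by rw [h2]; exact hne)
    have d1 := charDegree_indFun (ψ := χ) (χ := ⟨_, h1⟩) rfl
    rw [charDegree_mult hCT (hresT h)] at d1
    have h0 := H21.height_eq_zero_of_abelian hM hB hD hab hχB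
    have h4 := H22.blockHeight_add_blockExp (p := p) hχB
    have h5 := H22.blockDefect_add_blockExp (p := p) hχB
    rw [d1, Nat.factorization_mul Subgroup.index_ne_zero_of_finite
      (mul_ne_zero he.ne' (H22.charDegree_pos θ).ne'), Finsupp.add_apply,
      Nat.factorization_mul he.ne' (H22.charDegree_pos θ).ne', Finsupp.add_apply] at h4
    rw [← T.card_mul_index, ← CT.card_mul_index, hcardCT,
      Nat.factorization_mul (mul_ne_zero Nat.card_pos.ne' Subgroup.index_ne_zero_of_finite)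
        Subgroup.index_ne_zero_of_finite, Finsupp.add_apply,
      Nat.factorization_mul Nat.card_pos.ne' Subgroup.index_ne_zero_of_finite,
      Finsupp.add_apply] at h5
    have h6 : blockDefect p B = (Nat.card D).factorization p := by
      rw [H22.card_isDefectGroup hM hB hD, hp.out.factorization_pow, Finsupp.single_eq_same]
    omega
  have hp' : ¬ p ∣ CT.index := by
    have h1 := hexpo Dt.pos₁ ((Dt.over_iff _).2 (Or.inl rfl)) Dt.res₁
    have h2 := hexpo Dt.pos₂ ((Dt.over_iff _).2 (Or.inr rfl)) Dt.res₂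
    have hidx := index_eq Dt
    set k := CT.index.factorization p with hk'
    have d1 : p ^ k ∣ Dt.e₁ := h1 ▸ Nat.ordProj_dvd _ _
    have d2 : p ^ k ∣ Dt.e₂ := h2 ▸ Nat.ordProj_dvd _ _
    have d3 : p ^ (2 * k) ∣ CT.index := by
      rw [hidx, mul_comm, pow_mul]
      exact Nat.dvd_add (pow_dvd_pow_of_dvd d1 2) (pow_dvd_pow_of_dvd d2 2)
    have h4 := (hp.out.pow_dvd_iff_le_factorization Subgroup.index_ne_zero_of_finite).1 d3
    intro hdvd
    have h5 := hp.out.factorization_pos_of_dvd Subgroup.index_ne_zero_of_finite hdvd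
    omega
  -- the action on the dual
  obtain ⟨φ, hφ⟩ : ∃ φ : T →* MulAut (D →* ℂˣ), ∀ (t : T) (l : D →* ℂˣ) (u : D),
      φ t l u = l ((MulAut.conjNormal (t : G)).symm u) :=
    ⟨MonoidHom.mk' (fun t => (MulAut.conjNormal (t : G) : D ≃* D).monoidHomCongrLeft)
      (fun a b => MulEquiv.ext fun l => MonoidHom.ext fun u => by
        simp only [MulAut.mul_apply, MulEquiv.monoidHomCongrLeft_apply, MonoidHom.comp_apply,
          MonoidHom.coe_coe, Subgroup.coe_mul, map_mul]
        rfl), fun t l u => rfl⟩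
  have hφinv : ∀ (t : T) (l : D →* ℂˣ) (u : D),
      φ t⁻¹ l u = l ⟨(t : G) * u * (t : G)⁻¹, hDn.conj_mem u u.2 t⟩ := by
    intro t l u
    rw [hφ]
    refine congrArg l (Subtype.ext ?_)
    rw [MulAut.conjNormal_symm_apply, Subgroup.coe_inv, inv_inv]
  have hker' : φ.ker = CT := by
    ext t
    rw [MonoidHom.mem_ker, hCTdef, Subgroup.mem_subgroupOf]
    constructor
    · intro h
      refine Subgroup.mem_centralizer_iff.2 fun u hu => ?_
      by_contra hne
      obtain ⟨l, hl1⟩ := CommGroup.exists_apply_ne_one_of_hasEnoughRootsOfUnity D ℂ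
        (a := (MulAut.conjNormal (t : G)).symm ⟨u, hu⟩ * (⟨u, hu⟩ : D)⁻¹) (fun h1 => hne (by
          have := congrArg Subtype.val (mul_inv_eq_one.1 h1)
          rw [MulAut.conjNormal_symm_apply] at this
          calc u * (t : G) = (t : G) * ((t : G)⁻¹ * u * (t : G)) := by group
            _ = (t : G) * u := by rw [this]))
      refine hl1 ?_
      rw [map_mul, map_inv, ← hφ, h, MulAut.one_apply, mul_inv_cancel]
    · intro h
      refine MulEquiv.ext fun l => MonoidHom.ext fun u => ?_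
      rw [hφ, MulAut.one_apply]
      refine congrArg l (Subtype.ext ?_)
      rw [MulAut.conjNormal_symm_apply, mul_assoc, Subgroup.mem_centralizer_iff.1 h u u.2,
        inv_mul_cancel_left]
  have hηT : ∀ (g : G) (l m : D →* ℂˣ),
      H13.twist (Subgroup.centralizer (D : Set G)) g (η l : Subgroup.centralizer (D : Set G) → ℂ) = (η m : Subgroup.centralizer (D : Set G) → ℂ) →
      ∃ h : g ∈ T, φ (⟨g, h⟩ : T)⁻¹ l = m := by
    intro g l m hg
    have hgT : g ∈ T := hT.symm ▸ hfixθ g fun y hy => by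
      have h1 := congrFun hg y
      have hy' : ¬ p ∣ orderOf (⟨g * (y : G) * g⁻¹,
          (inferInstance : (Subgroup.centralizer (D : Set G)).Normal).conj_mem y y.2 g⟩ :
          Subgroup.centralizer (D : Set G)) := by
        rw [← Subgroup.orderOf_coe]
        show ¬ p ∣ orderOf (MulAut.conj g (y : G))
        rw [MulEquiv.orderOf_eq, Subgroup.orderOf_coe]
        exact hy
      rw [H13.twist_apply, hηval, sec_regular D _ l _ hy', hηval, sec_regular D _ m _ hy] at h1
      exact h1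
    refine ⟨hgT, MonoidHom.ext fun u => Units.ext ?_⟩
    have h1 := congrFun hg ⟨u, hDC u.2⟩
    rw [H13.twist_apply, hηD m u,
      show (η l : Subgroup.centralizer (D : Set G) → ℂ) _ = _ from hηD l ⟨g * u * g⁻¹, hDn.conj_mem u u.2 g⟩] at h1
    rw [hφinv]
    exact mul_right_cancel₀ hθ0 h1
  have htr : ∀ a b : D →* ℂˣ, a ≠ 1 → b ≠ 1 → ∃ t, φ t a = b := by
    intro a b ha hb
    obtain ⟨g, hg⟩ : ∃ g : G,
        H13.twist (Subgroup.centralizer (D : Set G)) g (η a : Subgroup.centralizer (D : Set G) → ℂ) = (η b : Subgroup.centralizer (D : Set G) → ℂ) := by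
      by_contra hne
      push Not at hne
      exact hη₃ b hb (H13.classInner_res_eq_zero_of_not_conj _ χ₃.2 (η a).2 (η b).2 (hη₃ a ha) hne)
    obtain ⟨h, h'⟩ := hηT g a b hg
    exact ⟨_, h'⟩
  -- the stabiliser of a nontrivial linear character
  letI : MulAction T (D →* ℂˣ) :=
    { smul := fun t l => φ t l
      one_smul := fun l => show φ 1 l = l by rw [map_one]; rfl
      mul_smul := fun a b l => show φ (a * b) l = φ a (φ b l) by rw [map_mul]; rfl }
  set St : Subgroup T := MulAction.stabilizer T l₀ with hSt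
  have hStmem : ∀ t : T, t ∈ St ↔ φ t l₀ = l₀ := fun t => Iff.rfl
  have hStidx : St.index = p ^ n - 1 := by
    rw [hSt, MulAction.index_stabilizer, show MulAction.orbit T l₀ = ({1}ᶜ : Set (D →* ℂˣ)) from ?_,
      Set.ncard_compl, Set.ncard_singleton, hV]
    ext m
    constructor
    · rintro ⟨t, rfl⟩ h
      exact hl₀ ((φ t).injective ((show φ t l₀ = 1 from h).trans (map_one _).symm))
    · intro hm
      exact htr l₀ m hl₀ hm
  set S : Subgroup G := St.map T.subtype with hS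
  have hSmem : ∀ g : G, g ∈ S ↔ ∃ h : g ∈ T, φ ⟨g, h⟩ l₀ = l₀ := by
    intro g
    rw [hS, Subgroup.mem_map]
    constructor
    · rintro ⟨t, ht, rfl⟩
      exact ⟨t.2, (hStmem t).1 ht⟩
    · rintro ⟨h, h'⟩
      exact ⟨⟨g, h⟩, (hStmem _).2 h', rfl⟩
  have hST : S ≤ T := Subgroup.map_subtype_le _
  have hlS : ∀ g ∈ S, ∀ u : D, l₀ ⟨g * u * g⁻¹, hDn.conj_mem u u.2 g⟩ = l₀ u := by
    intro g hg u
    obtain ⟨h, h'⟩ := (hSmem g).1 hg
    rw [← hφinv ⟨g, h⟩]
    have h2 : φ (⟨g, h⟩ : T)⁻¹ l₀ = l₀ := by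
      rw [map_inv, MulAut.inv_apply, MulEquiv.symm_apply_eq, h']
    rw [h2]
  have hCS : Subgroup.centralizer (D : Set G) ≤ S := fun g hg => (hSmem g).2 ⟨hCT hg, by
    have : (⟨g, hCT hg⟩ : T) ∈ φ.ker := hker'.symm ▸ Subgroup.mem_subgroupOf.2 hg
    rw [MonoidHom.mem_ker.1 this]; rfl⟩
  have hSin : S = H13.inertia (Subgroup.centralizer (D : Set G)) (η l₀ : Subgroup.centralizer (D : Set G) → ℂ) := by
    ext g
    rw [H13.mem_inertia]
    constructor
    · intro hg
      funext x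
      rw [H13.twist_apply, hηval, hηval]
      have hθg : (θ : Subgroup.centralizer (D : Set G) → ℂ) ⟨g * (x : G) * g⁻¹,
          (inferInstance : (Subgroup.centralizer (D : Set G)).Normal).conj_mem x x.2 g⟩ =
          (θ : Subgroup.centralizer (D : Set G) → ℂ) x := congrFun ((H13.mem_inertia _).1 (hT ▸ hST hg :
            g ∈ H13.inertia (Subgroup.centralizer (D : Set G)) (θ : Subgroup.centralizer (D : Set G) → ℂ))) x
      by_cases h : H20.pPart p (x : G) ∈ D
      · have h' : H20.pPart p (g * (x : G) * g⁻¹) ∈ D := by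
          rw [H20.pPart_conj]; exact hDn.conj_mem _ h g
        simp only [sec, dif_pos h, dif_pos h', hθg]
        congr 1
        rw [← hlS g hg ⟨_, h⟩]
        exact congrArg (fun u => (l₀ u : ℂ)) (Subtype.ext (H20.pPart_conj _ g))
      · have h' : H20.pPart p (g * (x : G) * g⁻¹) ∉ D := by
          rw [H20.pPart_conj]
          intro hc'
          exact h (by simpa [mul_assoc] using hDn.conj_mem _ hc' g⁻¹)
        simp only [sec, dif_neg h, dif_neg h']
    · intro hg
      obtain ⟨h, h'⟩ := hηT g l₀ l₀ hg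
      refine (hSmem g).2 ⟨h, ?_⟩
      conv_lhs => rw [← h']
      rw [map_inv, MulAut.inv_apply, MulEquiv.apply_symm_apply]
  haveI : ∀ R : Subgroup S, Fintype R := fun R => Fintype.ofFinite R
  set CS := (Subgroup.centralizer (D : Set G)).subgroupOf S with hCSdef
  haveI : CS.Normal := Subgroup.Normal.subgroupOf inferInstance S
  haveI : (D.subgroupOf S).Normal := Subgroup.Normal.subgroupOf inferInstance S
  have hinvS : ∀ t : S, H13.twist CS t (liftIrr hCS θ : CS → ℂ) = (liftIrr hCS θ : CS → ℂ) :=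
    twist_lift hCS θ (hST.trans hT.le)
  have hSidx : CT.index = CS.index * (p ^ n - 1) := by
    rw [← hStidx, show St = S.subgroupOf T from ?_]
    · exact (Subgroup.relIndex_mul_relIndex _ _ _ hCS hST).symm
    · ext t
      rw [Subgroup.mem_subgroupOf, hSmem, hStmem]
      exact ⟨fun h => ⟨t.2, h⟩, fun ⟨_, h⟩ => h⟩
  have hpS : ¬ p ∣ CS.index := fun h => hp' (h.trans (hSidx ▸ dvd_mul_right _ _))
  have hcardCS : Nat.card CS = Nat.card (Subgroup.centralizer (D : Set G)) :=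
    Nat.card_congr (Subgroup.subgroupOfEquivOfLe hCS).toEquiv
  have hcardDS : Nat.card (D.subgroupOf S) = Nat.card D :=
    Nat.card_congr (Subgroup.subgroupOfEquivOfLe (hDC.trans hCS)).toEquiv
  -- only one character of the stabiliser over `θ`
  have hstar : ∀ ψ : IrrCharacter S, Over CS (liftIrr hCS θ) ψ →
      ∃ hψ : IsIrrCharacter S (sec p D S l₀ (ψ : S → ℂ)),
        (∀ x : S, H20.pPart p (x : G) ∉ D → (ψ : S → ℂ) x = 0) ∧
        classInner (H13.resTo hCS (sec p D S l₀ (ψ : S → ℂ))) (η l₀ : Subgroup.centralizer (D : Set G) → ℂ) ≠ 0 ∧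
        indFun S (sec p D S l₀ (ψ : S → ℂ)) = (χ₃ : G → ℂ) := by
    intro ψ hψ
    obtain ⟨e, he, hres⟩ := exists_mult_eq CS (liftIrr hCS θ) hinvS hψ
    have hres' : H13.resTo hCS (ψ : S → ℂ) = (e : ℂ) • (θ : Subgroup.centralizer (D : Set G) → ℂ) := by
      funext x
      exact congrFun hres ⟨⟨x, hCS x.2⟩, x.2⟩
    have htriv : ∀ z : S, (z : G) ∈ D → (ψ : S → ℂ) z = (ψ : S → ℂ) 1 :=
      trivial_of_resTo hCS hDC hres' hker
    have hψD : ∀ u : S, (u : G) ∈ D → ∀ x, (ψ : S → ℂ) (u * x) = (ψ : S → ℂ) x := by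
      intro u hu x
      obtain ⟨ψ', hψ'⟩ := H21.exists_deflate (N := D.subgroupOf S) ψ fun z hz => htriv z hz
      rw [← hψ', H21.inflate_apply, H21.inflate_apply, QuotientGroup.mk_mul,
        (QuotientGroup.eq_one_iff u).2 (Subgroup.mem_subgroupOf.2 hu), one_mul]
    have hdvd : e ∣ CS.index :=
      H15.ramification_dvd_index ψ.2 (liftIrr hCS θ).2 hinvS e he.ne' hres
    have he0 : e.factorization p = 0 :=
      Nat.factorization_eq_zero_of_not_dvd fun h => hpS (h.trans hdvd)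
    have hdegS : (charDegree (ψ : S → ℂ)).factorization p +
        (Nat.card (D.subgroupOf S)).factorization p = (Nat.card S).factorization p := by
      rw [charDegree_mult hCS hres', Nat.factorization_mul he.ne' (H22.charDegree_pos θ).ne',
        Finsupp.add_apply, he0, zero_add, hcardDS, hdeg, ← CS.card_mul_index, hcardCS,
        Nat.factorization_mul Nat.card_pos.ne' Subgroup.index_ne_zero_of_finite, Finsupp.add_apply,
        Nat.factorization_eq_zero_of_not_dvd hpS, add_zero]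
    have hv : ∀ x : S, H20.pPart p (x : G) ∉ D → (ψ : S → ℂ) x = 0 := fun x hx =>
      H19.CentralDefect.apply_eq_zero_of_pPart_notMem (D.subgroupOf S) ψ
        (fun z hz => htriv z hz) hdegS fun h => hx (by rw [H20.pPart_coe]; exact h)
    have hirr := isIrr_sec hDp (hDC.trans hCS) l₀ hlS ψ hψD hv
    have hne : classInner (H13.resTo hCS (sec p D S l₀ (ψ : S → ℂ))) (η l₀ : Subgroup.centralizer (D : Set G) → ℂ) ≠ 0 := by
      rw [sec_resTo D hCS, hres', sec_smul, H12.classInner_smul_left,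
        show sec p D _ l₀ (θ : Subgroup.centralizer (D : Set G) → ℂ) = (η l₀ : Subgroup.centralizer (D : Set G) → ℂ) from rfl, H12.classInner_irr_self, mul_one]
      exact_mod_cast he.ne'
    obtain ⟨h1, h2⟩ := H13.clifford_correspondence _ (η l₀).2 hSin hCS hirr hne
    obtain ⟨h3, h4⟩ := hηnt l₀ hl₀ ⟨_, h1⟩ (by rw [h2]; exact hne)
    exact ⟨hirr, hv, hne, congrArg Subtype.val (hnt_eq ⟨_, h1⟩ h3 h4)⟩
  obtain ⟨ψ₀, hψ₀⟩ := exists_irr_over_normal CS (liftIrr hCS θ)
  have honly : ∀ ψ : IrrCharacter S, Over CS (liftIrr hCS θ) ψ → ψ = ψ₀ := by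
    intro ψ hψ
    obtain ⟨h1, hv1, hn1, he1⟩ := hstar ψ hψ
    obtain ⟨h2, hv2, hn2, he2⟩ := hstar ψ₀ hψ₀
    exact Subtype.ext (sec_cancel l₀ hv1 hv2 (H13.clifford_correspondence_inj _ (η l₀).2 hSin hCS
      h1 h2 hn1 hn2 (he1.trans he2.symm)))
  obtain ⟨f, hfres, hf2⟩ := ((H15.fullyRamified_equiv CS ψ₀.2 (liftIrr hCS θ).2 hψ₀).2).2
    ⟨hinvS, fun ψ hψ hne => congrArg Subtype.val
      (honly ⟨ψ, hψ⟩ (indFun_over CS (liftIrr hCS θ) ⟨ψ, hψ⟩ hne))⟩
  have hfdvd : ∀ {χ : IrrCharacter T} {e : ℕ},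
      (fun x : CT => (χ : T → ℂ) x) = (e : ℂ) • (liftIrr hCT θ : CT → ℂ) → f ∣ e := by
    intro χ e h
    have hχS : IsCharacter S (H13.resTo hST (χ : T → ℂ)) :=
      H13.isCharacter_resTo hST (H12.isCharacter_irr χ)
    obtain ⟨m, hm⟩ := H12.IsCharacter.exists_mult hχS
    refine ⟨m ψ₀, ?_⟩
    have h1 : classInner (fun x : CS => H13.resTo hST (χ : T → ℂ) x) (liftIrr hCS θ : CS → ℂ) =
        (e : ℂ) := by
      rw [classInner_lift hCS θ, show H13.resTo hCS (H13.resTo hST (χ : T → ℂ)) =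
        H13.resTo hCT (χ : T → ℂ) from rfl, hresT h, H12.classInner_smul_left,
        H12.classInner_irr_self, mul_one]
    have h2 : (fun x : CS => H13.resTo hST (χ : T → ℂ) x) =
        ∑ φ' : IrrCharacter S, (m φ' : ℂ) • (fun x : CS => (φ' : S → ℂ) x) := by
      funext x
      rw [hm, Finset.sum_apply, Finset.sum_apply]
      rfl
    rw [h2, H12.classInner_sum_left, Finset.sum_eq_single ψ₀ (fun φ' _ hne => by
      rw [H12.classInner_smul_left, show classInner (fun x : CS => (φ' : S → ℂ) x)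
        (liftIrr hCS θ : CS → ℂ) = 0 from Classical.byContradiction fun h0 => hne (honly φ' h0),
        mul_zero]) (by simp), H12.classInner_smul_left, hfres, H12.classInner_smul_left,
      H12.classInner_irr_self, mul_one] at h1
    have h3 : e = m ψ₀ * f := by exact_mod_cast h1.symm
    rw [h3, mul_comm]
  exact core Dt φ hker' (n := n) (fun l => MonoidHom.ext fun u => by
      rw [MonoidHom.pow_apply, ← map_pow, show u ^ p = 1 from Subtype.ext (hexp u u.2), map_one,
        MonoidHom.one_apply])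
    hV hn htr hp' (hfdvd Dt.res₁) (hfdvd Dt.res₂) (by rw [hSidx, hf2])

end H23.Three
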