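import Cfsg.Agent.H15.Extension
import Cfsg.Agent.H13.Gallagher
import Cfsg.Agent.H12.Integral
import Cfsg.Agent.H12.SignedVirtual

/-!
Class functions over an invariant character attached to elements with cyclic centraliser modulo a
normal subgroup, and the numerical consequences when there are two characters over it.
-/

set_option autoImplicit false
set_option linter.unusedSectionVars false
set_option linter.style.haveILetI false

open Cfsg Finset
open scoped ComplexConjugate

namespace H23.Three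

universe u

variable {T : Type u} [Group T] [Fintype T] (C : Subgroup T) [hCn : C.Normal] [Fintype C]
  (θ : IrrCharacter C)

/-- The irreducible characters lying over `θ`. -/
def Over (χ : IrrCharacter T) : Prop :=
  classInner (fun c : C => (χ : T → ℂ) c) (θ : C → ℂ) ≠ 0

/-- A class function over `θ` supported on the conjugates of the coset of `x`. -/
structure RegFun (x : T) (r : ℕ) (F : T → ℂ) : Prop where
  cls : IsClassFunction T F
  above : ∀ χ : IrrCharacter T, classInner F χ ≠ 0 → Over C θ χ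
  supp : ∀ w, F w ≠ 0 → ∃ t, t * w * t⁻¹ * x⁻¹ ∈ C
  norm : classInner F F = (r : ℂ)⁻¹
  rpos : 0 < r
  integ : ∀ χ : IrrCharacter T, IsIntegral ℤ ((r : ℂ) * classInner F χ)

theorem indFun_over (χ : IrrCharacter T) (h : classInner (indFun C (θ : C → ℂ)) χ ≠ 0) :
    Over C θ χ := by
  rw [H12.classInner_indFun C _ (H12.irr_isClassFunction χ), ← H12.conj_classInner] at h
  exact fun h0 => h (by rw [h0, map_zero])

theorem exists_regFun (hinv : ∀ t : T, H13.twist C t (θ : C → ℂ) = θ) {s x : T}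
    (hx : x ∈ C ⊔ Subgroup.zpowers s)
    (hcen : ∀ t : T, t * x * t⁻¹ * x⁻¹ ∈ C → t ∈ C ⊔ Subgroup.zpowers s) :
    ∃ F, RegFun C θ x (C.relIndex (C ⊔ Subgroup.zpowers s)) F := by
  classical
  set K := C ⊔ Subgroup.zpowers s with hK
  have hCK : C ≤ K := le_sup_left
  have hsK : s ∈ K := Subgroup.mem_sup_right (Subgroup.mem_zpowers s)
  haveI : Fintype K := Fintype.ofFinite K
  set N := C.subgroupOf K with hN
  haveI : N.Normal := Subgroup.Normal.subgroupOf inferInstance K
  haveI : Fintype N := Fintype.ofFinite N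
  haveI : Fintype (K ⧸ N) := Fintype.ofFinite _
  -- the quotient is cyclic
  have hgen : ∀ q : K ⧸ N, ∃ i : ℤ, (QuotientGroup.mk' N ⟨s, hsK⟩) ^ i = q := by
    intro q
    obtain ⟨⟨k, hk⟩, rfl⟩ := QuotientGroup.mk_surjective q
    obtain ⟨c, hc, z, ⟨i, rfl⟩, hcz⟩ := Subgroup.mem_sup_of_normal_left.1 hk
    refine ⟨i, ?_⟩
    rw [← map_zpow, QuotientGroup.mk'_apply, QuotientGroup.eq, Subgroup.mem_subgroupOf]
    have h1 : ((((⟨s, hsK⟩ : K) ^ i)⁻¹ * ⟨k, hk⟩ : K) : T) = (s ^ i)⁻¹ * c * s ^ i := by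
      push_cast
      rw [← hcz, mul_assoc]
    rw [h1]
    exact hCn.conj_mem' c hc _
  have hcyc : IsCyclic (K ⧸ N) := ⟨⟨_, fun q => hgen q⟩⟩
  have hcomm : ∀ a b : K ⧸ N, a * b = b * a := by
    intro a b
    obtain ⟨i, rfl⟩ := hgen a
    obtain ⟨j, rfl⟩ := hgen b
    rw [← zpow_add, ← zpow_add, add_comm]
  -- the extension
  obtain ⟨d, ρ, hρ, hρθ⟩ := (H12.isIrrCharacter_onSubgroupOf (T := K) hCK θ.2)
  have hρinv : ∀ (g : K) (r : N), ρ.character (MulAut.conjNormal g r) = ρ.character r := by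
    intro g r
    rw [hρθ]
    show (θ : C → ℂ) _ = (θ : C → ℂ) _
    exact (congrArg (θ : C → ℂ) (Subtype.ext (by simp))).trans
      (congrFun (hinv (g : T)) ⟨((r : K) : T), Subgroup.mem_subgroupOf.1 r.2⟩)
  haveI := hρ
  obtain ⟨η, hη, hηr⟩ := H15.extends_of_cyclic hρinv hcyc
  have hηc := H12.isCharacter_of_isIrrCharacter hη
  have hηcl := H12.IsCharacter.isClassFunction hηc
  have hres : IsIrrCharacter N (fun n : N => η n) := by
    have : (fun n : N => η n) = ρ.character := funext hηr
    rw [this]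
    exact ⟨d, ρ, hρ, rfl⟩
  have hηN : ∀ n : N, η n = (θ : C → ℂ) ⟨((n : K) : T), Subgroup.mem_subgroupOf.1 n.2⟩ := by
    intro n
    rw [hηr, hρθ]
    rfl
  set q₀ : K ⧸ N := QuotientGroup.mk' N ⟨x, hx⟩ with hq₀
  set δ : K ⧸ N → ℂ := fun q => if q = q₀ then 1 else 0 with hδ
  have hδcl : IsClassFunction (K ⧸ N) δ := fun a b => by
    rw [hcomm b a, mul_inv_cancel_right]
  set g : K → ℂ := fun k => δ (QuotientGroup.mk' N k) * η k with hg
  set Q : ℕ := Nat.card (K ⧸ N) with hQdef
  have hQ : C.relIndex K = Q := by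
    rw [Subgroup.relIndex, hQdef, Subgroup.index_eq_card]
  have hQ0 : (Q : ℂ) ≠ 0 := H12.card_ne_zero'
  -- expansion of `g`
  have hcoef : ∀ β : IrrCharacter (K ⧸ N),
      classInner δ (β : K ⧸ N → ℂ) = (Q : ℂ)⁻¹ * conj ((β : K ⧸ N → ℂ) q₀) := by
    intro β
    rw [H12.classInner_def, sum_eq_single q₀]
    · simp [hδ, hQdef]
    · intro q _ hq; simp [hδ, hq]
    · simp
  have hexp : g = ∑ β : IrrCharacter (K ⧸ N), classInner δ (β : K ⧸ N → ℂ) •
      ((H13.inflateIrr N β : K → ℂ) * η) := by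
    funext k
    rw [Finset.sum_apply]
    simp only [Pi.smul_apply, Pi.mul_apply, smul_eq_mul, H13.inflateIrr_apply, hg, ← mul_assoc,
      ← Finset.sum_mul]
    congr 1
    have := congrFun (H12.classFunction_eq_sum hδcl) (QuotientGroup.mk' N k)
    simpa [Finset.sum_apply, QuotientGroup.mk'_apply] using this
  set F := indFun K g with hF
  have hFcl : IsClassFunction T F := H12.indFun_isClassFunction K g
  have hFχ : ∀ χ : IrrCharacter T, classInner F χ = ∑ β : IrrCharacter (K ⧸ N),
      classInner δ (β : K ⧸ N → ℂ) *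
        classInner ((H13.inflateIrr N β : K → ℂ) * η) (fun k : K => (χ : T → ℂ) k) := by
    intro χ
    rw [hF, H12.classInner_indFun K g (H12.irr_isClassFunction χ), hexp,
      H12.classInner_sum_left]
    simp only [H12.classInner_smul_left]
  have hresχ : ∀ χ : IrrCharacter T, IsCharacter K (fun k : K => (χ : T → ℂ) k) := fun χ =>
    H12.IsCharacter.res (H12.isCharacter_irr χ) K
  -- the norm on a coset
  set S : K ⧸ N → ℂ := fun q =>
    ∑ k ∈ univ.filter (fun k : K => QuotientGroup.mk' N k = q), η k * conj (η k) with hS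
  have hSc : ∀ q, S q = (Nat.card N : ℂ) := by
    have hz : (fun q => S q - (Nat.card N : ℂ)) = (0 : K ⧸ N → ℂ) := by
      refine H12.eq_zero_of_classInner_irr_eq_zero
        (fun a b => by rw [hcomm b a, mul_inv_cancel_right]) fun β => ?_
      have e1 : ∑ q, S q * conj ((β : K ⧸ N → ℂ) q) = ∑ k : K, η k * conj (η k) *
          conj ((β : K ⧸ N → ℂ) (QuotientGroup.mk' N k)) := by
        rw [← Finset.sum_fiberwise univ (QuotientGroup.mk' N)
          (fun k : K => η k * conj (η k) * conj ((β : K ⧸ N → ℂ) (QuotientGroup.mk' N k)))]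
        refine sum_congr rfl fun q _ => ?_
        rw [hS, Finset.sum_mul]
        exact sum_congr rfl fun k hk => by rw [(mem_filter.1 hk).2]
      have e2 := H13.gallagher_orthonormal N hηc hres (H12.oneIrr (K ⧸ N)) β
      have e3 : classInner (H13.inflateIrr N (H12.oneIrr (K ⧸ N)) : K → ℂ)
          (H13.inflateIrr N β : K → ℂ) = classInner (H12.oneIrr (K ⧸ N) : K ⧸ N → ℂ) β := by
        rw [H12.classInner_irr, H12.classInner_irr]
        by_cases h : H12.oneIrr (K ⧸ N) = β
        · simp [h]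
        · rw [if_neg h, if_neg fun h' => h (H13.inflateIrr_injective N h')]
      rw [e3, H12.classInner_def, H12.classInner_def] at e2
      simp only [Pi.mul_apply, H13.inflateIrr_apply, H12.oneIrr_apply, one_mul, map_mul] at e2
      have hK' : (Nat.card K : ℂ) = (Q : ℂ) * (Nat.card N : ℂ) := by
        rw [hQdef, ← N.card_mul_index, Subgroup.index_eq_card, Nat.cast_mul, mul_comm]
      have hN0 : (Nat.card N : ℂ) ≠ 0 := H12.card_ne_zero'
      have e4 : ∑ k : K, η k * conj (η k) * conj ((β : K ⧸ N → ℂ) (QuotientGroup.mk' N k)) =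
          (Nat.card N : ℂ) * ∑ q, conj ((β : K ⧸ N → ℂ) q) := by
        rw [hK'] at e2
        field_simp at e2
        rw [← hQdef] at e2
        refine mul_right_cancel₀ hQ0 ?_
        rw [mul_right_comm, mul_comm (Nat.card N : ℂ) (Q : ℂ), ← e2]
        congr 1
        refine sum_congr rfl fun k _ => ?_
        rw [QuotientGroup.mk'_apply]; ring
      rw [H12.classInner_def]
      simp only [sub_mul, Finset.sum_sub_distrib, e1, e4, ← Finset.mul_sum, sub_self, mul_zero]
    intro q
    exact sub_eq_zero.1 (congrFun hz q)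
  have hNcard : Nat.card N = Nat.card C := Nat.card_congr (Subgroup.subgroupOfEquivOfLe hCK).toEquiv
  -- values of `F` on the coset
  have hval : ∀ k : K, QuotientGroup.mk' N k = q₀ → F k = η k := by
    intro k hk
    have hkx : (k : T) * x⁻¹ ∈ C := by
      have h1 : (⟨x, hx⟩ : K)⁻¹ * k ∈ N := QuotientGroup.eq.1 hk.symm
      have h2 := hCn.conj_mem _ (Subgroup.mem_subgroupOf.1 h1) x
      simpa [mul_assoc] using h2
    have hone : ∀ t : T, extendByZero K g (t⁻¹ * k * t) = if t ∈ K then η k else 0 := by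
      intro t
      by_cases ht : t ∈ K
      · rw [if_pos ht, show t⁻¹ * (k : T) * t = (((⟨t, ht⟩ : K)⁻¹ * k * ⟨t, ht⟩ : K) : T) from rfl,
          H12.extendByZero_coe]
        have h1 : QuotientGroup.mk' N ((⟨t, ht⟩ : K)⁻¹ * k * ⟨t, ht⟩) = q₀ := by
          rw [map_mul, map_mul, map_inv, hcomm, ← mul_assoc, mul_inv_cancel, one_mul, hk]
        simp only [hg, hδ, h1, if_true, one_mul]
        simpa using hηcl k (⟨t, ht⟩ : K)⁻¹
      · rw [if_neg ht]
        by_cases hm : t⁻¹ * k * t ∈ K
        · rw [show t⁻¹ * (k : T) * t = ((⟨_, hm⟩ : K) : T) from rfl, H12.extendByZero_coe]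
          have h1 : QuotientGroup.mk' N (⟨_, hm⟩ : K) ≠ q₀ := by
            intro h1
            apply ht
            have h2 : (⟨x, hx⟩ : K)⁻¹ * ⟨_, hm⟩ ∈ N := QuotientGroup.eq.1 h1.symm
            have h3 : x⁻¹ * (t⁻¹ * k * t) ∈ C := Subgroup.mem_subgroupOf.1 h2
            refine hcen t ?_
            have h4 : (k : T)⁻¹ * (t * x * t⁻¹) ∈ C := by
              have h5 := hCn.conj_mem _ (inv_mem h3) t
              have h6 : t * (x⁻¹ * (t⁻¹ * k * t))⁻¹ * t⁻¹ = (k : T)⁻¹ * (t * x * t⁻¹) := by group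
              rwa [h6] at h5
            have h7 : (k : T) * ((k : T)⁻¹ * (t * x * t⁻¹)) * (k : T)⁻¹ * ((k : T) * x⁻¹) ∈ C :=
              mul_mem (hCn.conj_mem _ h4 _) hkx
            simpa [mul_assoc] using h7
          simp only [hg, hδ, if_neg h1, zero_mul]
        · exact H12.extendByZero_of_notMem K g hm
    rw [hF, H12.indFun_apply, Finset.sum_congr rfl fun t _ => hone t, ← Finset.sum_filter,
      Finset.sum_const, nsmul_eq_mul]
    have : (univ.filter fun t : T => t ∈ K).card = Nat.card K := by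
      rw [Nat.card_eq_fintype_card, Fintype.card_subtype]
    rw [this, ← mul_assoc, inv_mul_cancel₀ H12.card_ne_zero', one_mul]
  refine ⟨F, hFcl, fun χ hχ => ?_, fun w hw => ?_, ?_, ?_, fun χ => ?_⟩
  · -- over
    intro h0
    apply hχ
    rw [hFχ]
    refine sum_eq_zero fun β _ => ?_
    have hβ := H13.gallagher_isIrr N hηc hres β
    obtain ⟨m, hm⟩ := H12.IsCharacter.exists_mult (hresχ χ)
    suffices h1 : m ⟨_, hβ⟩ = 0 by
      have h2 := H12.classInner_sum_smul_irr (fun φ => (m φ : ℂ)) (⟨_, hβ⟩ : IrrCharacter K)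
      rw [← hm] at h2
      simp only [h1, Nat.cast_zero] at h2
      change _ * classInner ((⟨_, hβ⟩ : IrrCharacter K) : K → ℂ) _ = 0
      rw [← H12.conj_classInner (fun k : K => (χ : T → ℂ) k), h2, map_zero, mul_zero]
    have h3 : classInner (fun n : N => (χ : T → ℂ) ((n : K) : T)) (fun n : N => η n) = 0 := by
      rw [← h0, H12.classInner_def, H12.classInner_def, hNcard]
      congr 1
      refine Fintype.sum_equiv (Subgroup.subgroupOfEquivOfLe hCK).toEquiv _ _ fun n => ?_
      rw [hηN]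
      rfl
    have hexp' : (fun n : N => (χ : T → ℂ) ((n : K) : T)) =
        ∑ φ : IrrCharacter K, (m φ : ℂ) • fun n : N => (φ : K → ℂ) n := by
      funext n
      have := congrFun hm (n : K)
      simpa [Finset.sum_apply] using this
    rw [hexp', H12.classInner_sum_left] at h3
    simp only [H12.classInner_smul_left] at h3
    have hnn : ∀ φ : IrrCharacter K, ∃ a : ℕ,
        (m φ : ℂ) * classInner (fun n : N => (φ : K → ℂ) n) (fun n : N => η n) = a := by
      intro φ
      obtain ⟨a, ha⟩ := H12.IsCharacter.classInner_nat (H12.IsCharacter.res (H12.isCharacter_irr φ) N)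
        (H12.isCharacter_of_isIrrCharacter hres)
      exact ⟨m φ * a, by rw [ha, Nat.cast_mul]⟩
    choose a ha using hnn
    simp only [ha] at h3
    have h4 : a ⟨_, hβ⟩ = 0 := (sum_eq_zero_iff (s := univ)).1 (by exact_mod_cast h3) _ (mem_univ _)
    have h5 := ha ⟨_, hβ⟩
    rw [h4, Nat.cast_zero, mul_eq_zero] at h5
    refine Nat.cast_eq_zero.1 (h5.resolve_right ?_)
    have hβN : (fun n : N => ((H13.inflateIrr N β : K → ℂ) * η) n) =
        (β : K ⧸ N → ℂ) 1 • fun n : N => η n := by
      funext n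
      simp only [Pi.mul_apply, H13.inflateIrr_apply, Pi.smul_apply, smul_eq_mul]
      rw [(QuotientGroup.eq_one_iff (n : K)).2 n.2]
    show classInner (fun n : N => ((H13.inflateIrr N β : K → ℂ) * η) n) _ ≠ 0
    rw [hβN, H12.classInner_smul_left,
      H12.classInner_irr_self (⟨_, hres⟩ : IrrCharacter N), mul_one]
    exact H12.irr_apply_one_ne_zero β
  · -- support
    rw [hF, H12.indFun_apply] at hw
    obtain ⟨t, -, ht⟩ := exists_ne_zero_of_sum_ne_zero (right_ne_zero_of_mul hw)
    have hm : t⁻¹ * w * t ∈ K := by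
      by_contra hm
      exact ht (H12.extendByZero_of_notMem K g hm)
    rw [show t⁻¹ * w * t = ((⟨_, hm⟩ : K) : T) from rfl, H12.extendByZero_coe] at ht
    have h1 : QuotientGroup.mk' N (⟨_, hm⟩ : K) = q₀ := by
      by_contra h1
      simp only [hg, hδ, if_neg h1, zero_mul] at ht
      exact ht rfl
    have h2 : (⟨x, hx⟩ : K)⁻¹ * ⟨_, hm⟩ ∈ N := QuotientGroup.eq.1 h1.symm
    have h3 : x⁻¹ * (t⁻¹ * w * t) ∈ C := Subgroup.mem_subgroupOf.1 h2
    refine ⟨t⁻¹, ?_⟩
    have := hCn.conj_mem _ h3 x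
    simpa [mul_assoc] using this
  · -- norm
    nth_rw 1 [hF]
    rw [H12.classInner_indFun K g hFcl, H12.classInner_def, hQ]
    have h1 : ∑ k : K, g k * conj (F k) = S q₀ := by
      simp only [hS, Finset.sum_filter]
      refine sum_congr rfl fun k _ => ?_
      by_cases hk : QuotientGroup.mk' N k = q₀
      · rw [if_pos hk, hval k hk]; simp only [hg, hδ, hk, if_true, if_false, one_mul, zero_mul]
      · rw [if_neg hk]; simp only [hg, hδ, hk, if_true, if_false, one_mul, zero_mul]
    rw [h1, hSc, ← N.card_mul_index, Subgroup.index_eq_card, Nat.cast_mul, mul_inv, mul_right_comm,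
      inv_mul_cancel₀ H12.card_ne_zero', one_mul]
  · rw [hQ]; exact Nat.card_pos
  · -- integrality
    rw [hFχ, Finset.mul_sum, hQ]
    refine IsIntegral.sum _ fun β _ => ?_
    rw [hcoef, ← mul_assoc, ← mul_assoc, mul_inv_cancel₀ hQ0, one_mul]
    obtain ⟨a, ha⟩ := H12.IsCharacter.classInner_nat
      (H12.isCharacter_of_isIrrCharacter (H13.gallagher_isIrr N hηc hres β)) (hresχ χ)
    rw [ha]
    exact (H12.irr_inv β q₀ ▸ H12.IsCharacter.isIntegral (H12.isCharacter_irr β) q₀⁻¹).mul
      (by simpa using isIntegral_algebraMap (R := ℤ) (A := ℂ) (x := (a : ℤ)))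

end H23.Three
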