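import Cfsg.Agent.H21.SelfCentralBlock
import Cfsg.Agent.H19.CentralDefect
import Cfsg.Agent.H19.CentralRank

/-!
Twisting characters that live on the `p`-sections of a normal `p`-subgroup by a linear character,
and some lemmas on coset representatives of a normal abelian `p`-subgroup.
-/

set_option autoImplicit false
set_option linter.unusedSectionVars false
set_option linter.style.haveILetI false

open Cfsg Finset
open scoped ComplexConjugate

namespace H23.Three

universe u

variable {G : Type u} [Group G] [Fintype G] {p : ℕ} [hp : Fact p.Prime]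

/-- A linear character as an irreducible character. -/
noncomputable def linIrr {D : Type u} [Group D] (l : D →* ℂˣ) : IrrCharacter D :=
  ⟨fun u => (l u : ℂ), H12.isIrrCharacter_monoidHom l⟩

theorem linIrr_apply {D : Type u} [Group D] (l : D →* ℂˣ) (u : D) :
    (linIrr l : D → ℂ) u = (l u : ℂ) := rfl

theorem lin_mul_conj {D : Type u} [Group D] [Finite D] (l : D →* ℂˣ) (u : D) :
    (l u : ℂ) * conj (l u : ℂ) = 1 := by
  rw [Complex.mul_conj, Complex.normSq_eq_norm_sq,
    Complex.norm_eq_one_of_pow_eq_one (n := orderOf u) ?_ (orderOf_pos u).ne']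
  · simp
  · rw [← Units.val_pow_eq_pow_val, ← map_pow, pow_orderOf_eq_one, map_one, Units.val_one]

/-- Twisting by an invariant linear character keeps irreducibility. -/
theorem isIrr_secFun_lin {D : Subgroup G} [hDn : D.Normal] (hD : IsPGroup p D) (l : D →* ℂˣ)
    (hl : ∀ (g : G) (u : D), l ⟨g * u * g⁻¹, hDn.conj_mem u u.2 g⟩ = l u) (ψ : IrrCharacter G)
    (hψD : ∀ u ∈ D, ∀ g, (ψ : G → ℂ) (u * g) = (ψ : G → ℂ) g)
    (hvan : ∀ g, H20.pPart p g ∉ D → (ψ : G → ℂ) g = 0) :
    IsIrrCharacter G (H21.secFun p D (linIrr l : D → ℂ) (ψ : G → ℂ)) := by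
  classical
  set χ := H21.secFun p D (linIrr l : D → ℂ) (ψ : G → ℂ) with hχ
  have hcl : IsClassFunction G χ := by
    intro g c
    have hψc : (ψ : G → ℂ) (c * g * c⁻¹) = (ψ : G → ℂ) g := H12.irr_isClassFunction ψ g c
    by_cases h : H20.pPart p g ∈ D
    · have h' : H20.pPart p (c * g * c⁻¹) ∈ D := by
        rw [H20.pPart_conj]; exact hDn.conj_mem _ h c
      simp only [hχ, H21.secFun, dif_pos h, dif_pos h', hψc, linIrr_apply]
      congr 1
      rw [← hl c ⟨_, h⟩]
      exact congrArg (fun u => (l u : ℂ)) (Subtype.ext (H20.pPart_conj g c))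
    · have h' : H20.pPart p (c * g * c⁻¹) ∉ D := by
        rw [H20.pPart_conj]
        intro hc
        exact h (by simpa [mul_assoc] using hDn.conj_mem _ hc c⁻¹)
      simp only [hχ, H21.secFun, dif_neg h, dif_neg h']
  have hgen : IsGeneralizedCharacter G χ := by
    refine H14.isGeneralizedCharacter_of_elementary _ hcl fun E ℓ hℓ hE => ?_
    haveI : Fintype E := Fintype.ofFinite E
    exact H12.isGeneralizedCharacter_iff.2 ⟨fun a b => hcl (a : G) (b : G),
      fun ξ => H21.classInner_secFun_elementary hℓ E hE hD (linIrr l) ψ hψD hvan ξ⟩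
  have hnorm : classInner χ χ = 1 := by
    rw [← H12.classInner_irr_self ψ, H12.classInner_def, H12.classInner_def]
    congr 1
    refine sum_congr rfl fun g _ => ?_
    by_cases h : H20.pPart p g ∈ D
    · simp only [hχ, H21.secFun, dif_pos h, map_mul, linIrr_apply]
      linear_combination ((ψ : G → ℂ) g * conj ((ψ : G → ℂ) g)) * lin_mul_conj l ⟨_, h⟩
    · simp only [hχ, H21.secFun, dif_neg h, hvan g h, zero_mul]
  refine H14.isIrrCharacter_of_norm_one hgen hnorm (d := H12.degree (ψ : G → ℂ))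
    (H12.irr_degree_pos ψ) ?_
  rw [hχ, H21.secFun_regular D _ _ (by rw [orderOf_one]; exact hp.out.not_dvd_one),
    linIrr_apply, map_one, Units.val_one, one_mul, H12.irr_apply_one]

theorem secFun_lin_cancel {D : Subgroup G} (l : D →* ℂˣ) {ψ ψ' : G → ℂ}
    (hvan : ∀ g, H20.pPart p g ∉ D → ψ g = 0) (hvan' : ∀ g, H20.pPart p g ∉ D → ψ' g = 0)
    (h : H21.secFun p D (linIrr l : D → ℂ) ψ = H21.secFun p D (linIrr l : D → ℂ) ψ') :
    ψ = ψ' := by
  funext g
  by_cases hg : H20.pPart p g ∈ D
  · have h1 := congrFun h g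
    simp only [H21.secFun, dif_pos hg, linIrr_apply] at h1
    exact mul_left_cancel₀ (Units.ne_zero _) h1
  · rw [hvan g hg, hvan' g hg]

/-- Regular elements of one coset of a normal abelian `p`-subgroup are conjugate. -/
theorem isConj_of_mk_eq {D : Subgroup G} [hDn : D.Normal] (hD : IsPGroup p D)
    (hab : ∀ a ∈ D, ∀ b ∈ D, a * b = b * a) {y y' : G} (hy : ¬ p ∣ orderOf y)
    (hy' : ¬ p ∣ orderOf y') (h : (y' : G ⧸ D) = y) : IsConj y y' := by
  classical
  letI : CommGroup D := { (inferInstance : Group D) with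
    mul_comm := fun a b => Subtype.ext (hab a a.2 b b.2) }
  have hd' : y' * y⁻¹ ∈ D := by
    have h1 : y⁻¹ * y' ∈ D := QuotientGroup.eq.1 h.symm
    simpa [mul_assoc] using hDn.conj_mem _ h1 y
  obtain ⟨σ, hσ⟩ : ∃ σ : D →* D, ∀ u : D, ((σ u : D) : G) = y * u * y⁻¹ :=
    ⟨MonoidHom.mk' (fun u => ⟨y * u * y⁻¹, hDn.conj_mem u u.2 y⟩) (fun a b => Subtype.ext (by
      show y * ((a : G) * b) * y⁻¹ = y * a * y⁻¹ * (y * b * y⁻¹)
      group)), fun u => rfl⟩
  obtain ⟨d, hd⟩ : ∃ d : D, (d : G) * y = y' := ⟨⟨_, hd'⟩, inv_mul_cancel_right y' y⟩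
  let S : ℕ → D := fun i => (fun x => σ x)^[i] d
  have hS : ∀ i, ((S i : D) : G) = y ^ i * d * (y ^ i)⁻¹ := by
    intro i
    induction i with
    | zero => simp [S]
    | succ i ih =>
      show (((fun x => σ x)^[i + 1] d : D) : G) = _
      rw [Function.iterate_succ_apply', hσ, ih, pow_succ']
      group
  set m := orderOf y with hm
  have hm0 : m ≠ 0 := (orderOf_pos y).ne'
  have hSm : S m = d := Subtype.ext (by rw [hS, pow_orderOf_eq_one]; simp)
  have hprod : ∀ i : ℕ, y' ^ i = ((∏ j ∈ Finset.range i, S j : D) : G) * y ^ i := by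
    intro i
    induction i with
    | zero => simp
    | succ i ih =>
      rw [pow_succ, ih, Finset.prod_range_succ, Subgroup.coe_mul, hS, ← hd, pow_succ]
      group
  have hN : (∏ j ∈ Finset.range m, S j : D) = 1 := by
    have h1 := hprod m
    rw [pow_orderOf_eq_one, mul_one] at h1
    obtain ⟨k, hk⟩ := IsPGroup.iff_orderOf.1 hD (∏ j ∈ Finset.range m, S j)
    rw [← orderOf_eq_one_iff, hk]
    rcases k with _ | k
    · simp
    · exfalso
      rw [← Subgroup.orderOf_coe, ← h1] at hk
      exact hy' ((hk ▸ dvd_pow_self p (Nat.succ_ne_zero k)).trans (orderOf_pow_dvd m))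
  have hσS : ∀ j, σ (S j) = S (j + 1) := fun j => (Function.iterate_succ_apply' _ j d).symm
  set v : D := ∏ j ∈ Finset.range m, S j ^ j with hv
  have hσv : σ v = v * d ^ m := by
    have h1 : (∏ j ∈ Finset.range m, S (j + 1)) = 1 := by
      have h2 := Finset.prod_range_succ' S m
      have h3 := Finset.prod_range_succ S m
      rw [h2, hN, one_mul, hSm, show S 0 = d from rfl] at h3
      exact mul_eq_right.1 h3
    have h4 : σ v = ∏ j ∈ Finset.range m, S (j + 1) ^ j := by
      rw [hv, map_prod]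
      exact Finset.prod_congr rfl fun j _ => by rw [map_pow, hσS]
    have h5 := Finset.prod_range_succ' (fun j => S j ^ j) m
    rw [Finset.prod_range_succ (fun j => S j ^ j) m] at h5
    simp only [pow_succ, Finset.prod_mul_distrib, h1, pow_zero, mul_one, hSm, ← h4] at h5
    exact h5.symm
  obtain ⟨i, hi⟩ : ∃ i : ℕ, (d ^ m) ^ i = d := by
    obtain ⟨k, hk⟩ := IsPGroup.iff_orderOf.1 hD d
    exact exists_pow_eq_self_of_coprime (by
      rw [hk]; exact (Nat.Coprime.pow_left _ ((hp.out.coprime_iff_not_dvd).2 hy)).symm)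
  refine isConj_iff.2 ⟨((v ^ i : D) : G)⁻¹, ?_⟩
  have h6 : σ (v ^ i) = v ^ i * d := by rw [map_pow, hσv, mul_pow, hi]
  have h7 : y * ((v ^ i : D) : G) * y⁻¹ = ((v ^ i : D) : G) * d := by
    rw [← hσ, h6, Subgroup.coe_mul]
  calc ((v ^ i : D) : G)⁻¹ * y * ((v ^ i : D) : G)⁻¹⁻¹
      = ((v ^ i : D) : G)⁻¹ * (y * ((v ^ i : D) : G) * y⁻¹) * y := by group
    _ = y' := by rw [h7, ← hd]; group

/-- A block with central defect group has one character trivial on it. -/
theorem eq_of_trivial_central {M : Ideal AlgInt} [M.IsPrime] (hM : IsPModular p M)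
    {b : Set (IrrCharacter G)} (hb : IsPBlock M b) (Z : Subgroup G) (hZ : Z ≤ Subgroup.center G)
    (hZp : IsPGroup p Z) (hd : blockDefect p b = (Nat.card Z).factorization p)
    {θ η : IrrCharacter G} (hθ : θ ∈ b) (hη : η ∈ b)
    (hker : ∀ z ∈ Z, (θ : G → ℂ) z = (θ : G → ℂ) 1)
    (hkη : ∀ z ∈ Z, (η : G → ℂ) z = (η : G → ℂ) 1)
    (hdeg : (charDegree (θ : G → ℂ)).factorization p + (Nat.card Z).factorization p =
      (Nat.card G).factorization p) : η = θ := by
  classical
  haveI : Z.Normal := ⟨fun z hz g => by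
    rw [Subgroup.mem_center_iff.1 (hZ hz) g, mul_inv_cancel_right]; exact hz⟩
  have hθh : blockHeight p b (θ : G → ℂ) = 0 := by
    have h1 := H22.blockHeight_add_blockExp (p := p) hθ
    have h2 := H22.blockDefect_add_blockExp (p := p) hθ
    omega
  obtain ⟨zm, hzm, hmat⟩ := H22.exists_isDeltaMatrix (p := p) hM hb
  by_contra hne
  have h0 : classInner (θ : G → ℂ) (η : G → ℂ) = 0 := H12.classInner_irr_ne (Ne.symm hne)
  have hsec := H19.CentralRank.sum_section (p := p) (fun g => (θ : G → ℂ) g * conj ((η : G → ℂ) g))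
    hZp hZ fun z hz y => by
      simp only [H19.CentralRank.apply_mul_of_trivial hZ θ hker hz,
        H19.CentralRank.apply_mul_of_trivial hZ η hkη hz]
  rw [sum_congr rfl fun g _ => show (if H20.pPart p g ∈ Z then
      (θ : G → ℂ) g * conj ((η : G → ℂ) g) else 0) = (θ : G → ℂ) g * conj ((η : G → ℂ) g) by
        split_ifs with hg
        · rfl
        · rw [H19.CentralDefect.apply_eq_zero_of_pPart_notMem (p := p) Z θ hker hdeg hg, zero_mul]]
    at hsec
  have hreg : ∑ g : G, (if p ∣ orderOf g then 0 else (θ : G → ℂ) g * conj ((η : G → ℂ) g)) =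
      (Nat.card G : ℂ) * H22.Delta p θ η := by
    rw [H22.Delta, H12.classInner_def, ← mul_assoc,
      mul_inv_cancel₀ (H12.card_ne_zero' (G := G)), one_mul]
    refine sum_congr rfl fun g _ => ?_
    rw [H22.pRegularPart_apply]
    split_ifs <;> simp
  rw [H12.classInner_def, mul_eq_zero] at h0
  rw [h0.resolve_left (inv_ne_zero (H12.card_ne_zero' (G := G))), hreg] at hsec
  have hD : H22.Delta p θ η = 0 := by
    rcases mul_eq_zero.1 hsec.symm with h | h
    · exact absurd h (Nat.cast_ne_zero.2 Nat.card_pos.ne')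
    · exact (mul_eq_zero.1 h).resolve_left (H12.card_ne_zero' (G := G))
  have hz0 : zm θ η = 0 := by
    have h := hzm θ hθ η
    rw [hD, mul_zero] at h
    exact_mod_cast h
  exact hmat.exact_zero η hη θ hθ hθh (by
    rw [hmat.symm η hη θ hθ, hz0]; exact dvd_zero _)

end H23.Three
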