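import Cfsg.Agent.H23.Three.Regular
import Cfsg.Agent.H13.Correspondence
import Cfsg.Agent.H23.Three.Number

/-!
The numerical consequences of having exactly two characters over an invariant character.
-/

set_option autoImplicit false
set_option linter.unusedSectionVars false
set_option linter.style.haveILetI false

open Cfsg Finset
open scoped ComplexConjugate

namespace H23.Three

universe u

variable {T : Type u} [Group T] [Fintype T] (C : Subgroup T) [hCn : C.Normal] [Fintype C]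
  (θ : IrrCharacter C)

/-- The two characters over `θ` with their multiplicities. -/
structure Two where
  inv : ∀ t : T, H13.twist C t (θ : C → ℂ) = θ
  χ₁ : IrrCharacter T
  χ₂ : IrrCharacter T
  ne : χ₁ ≠ χ₂
  e₁ : ℕ
  e₂ : ℕ
  pos₁ : 0 < e₁
  pos₂ : 0 < e₂
  res₁ : (fun c : C => (χ₁ : T → ℂ) c) = (e₁ : ℂ) • (θ : C → ℂ)
  res₂ : (fun c : C => (χ₂ : T → ℂ) c) = (e₂ : ℂ) • (θ : C → ℂ)
  over_iff : ∀ χ : IrrCharacter T, Over C θ χ ↔ χ = χ₁ ∨ χ = χ₂

theorem exists_mult_eq (hinv : ∀ t : T, H13.twist C t (θ : C → ℂ) = θ) {χ : IrrCharacter T}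
    (h : Over C θ χ) : ∃ e : ℕ, 0 < e ∧ (fun c : C => (χ : T → ℂ) c) = (e : ℂ) • (θ : C → ℂ) := by
  classical
  obtain ⟨e, he⟩ := H12.IsCharacter.classInner_nat
    (H12.IsCharacter.res (H12.isCharacter_irr χ) C) (H12.isCharacter_irr θ)
  have hres := H13.clifford_res C χ.2 θ.2 h {θ} fun ψ => by
    rw [Finset.mem_singleton]
    exact ⟨fun hψ => ⟨1, hψ ▸ hinv 1⟩, fun ⟨x, hx⟩ => Subtype.ext (hx.symm.trans (hinv x))⟩
  rw [Finset.sum_singleton, he] at hres
  refine ⟨e, Nat.pos_of_ne_zero ?_, hres⟩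
  rintro rfl
  exact h (by rw [he, Nat.cast_zero])

theorem exists_two (hinv : ∀ t : T, H13.twist C t (θ : C → ℂ) = θ)
    (htwo : Nat.card {χ : IrrCharacter T // Over C θ χ} = 2) : Nonempty (Two C θ) := by
  classical
  obtain ⟨a, b, hab, huniv⟩ := Nat.card_eq_two_iff.1 htwo
  obtain ⟨e₁, he₁, h₁⟩ := exists_mult_eq C θ hinv a.2
  obtain ⟨e₂, he₂, h₂⟩ := exists_mult_eq C θ hinv b.2
  refine ⟨⟨hinv, a.1, b.1, fun h => hab (Subtype.ext h), e₁, e₂, he₁, he₂, h₁, h₂, fun χ => ⟨fun h => ?_, ?_⟩⟩⟩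
  · have := Set.eq_univ_iff_forall.1 huniv ⟨χ, h⟩
    rcases this with h' | h'
    · exact Or.inl (congrArg Subtype.val h')
    · exact Or.inr (congrArg Subtype.val h')
  · rintro (rfl | rfl)
    · exact a.2
    · exact b.2

variable {C θ}

theorem inner_eq (D : Two C θ) {A B : T → ℂ} (hA : IsClassFunction T A)
    (hover : ∀ χ : IrrCharacter T, classInner A χ ≠ 0 → Over C θ χ) :
    classInner A B = classInner A (D.χ₁ : T → ℂ) * conj (classInner B (D.χ₁ : T → ℂ)) +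
      classInner A (D.χ₂ : T → ℂ) * conj (classInner B (D.χ₂ : T → ℂ)) := by
  classical
  conv_lhs => rw [H12.classFunction_eq_sum hA, H12.classInner_sum_left]
  simp only [H12.classInner_smul_left, H12.conj_classInner]
  rw [← Finset.sum_subset (Finset.subset_univ {D.χ₁, D.χ₂}) fun χ _ hχ => ?_,
    Finset.sum_pair D.ne]
  rw [show classInner A (χ : T → ℂ) = 0 by
    by_contra h
    simp only [Finset.mem_insert, Finset.mem_singleton] at hχ
    exact hχ ((D.over_iff χ).1 (hover χ h)), zero_mul]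

theorem inner_indFun (D : Two C θ) :
    classInner (indFun C (θ : C → ℂ)) (D.χ₁ : T → ℂ) = (D.e₁ : ℂ) ∧
      classInner (indFun C (θ : C → ℂ)) (D.χ₂ : T → ℂ) = (D.e₂ : ℂ) := by
  constructor
  · rw [H12.classInner_indFun C _ (H12.irr_isClassFunction _), D.res₁, H12.classInner_smul_right,
      H12.classInner_irr_self, mul_one, Complex.conj_natCast]
  · rw [H12.classInner_indFun C _ (H12.irr_isClassFunction _), D.res₂, H12.classInner_smul_right,
      H12.classInner_irr_self, mul_one, Complex.conj_natCast]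

theorem index_eq (D : Two C θ) : C.index = D.e₁ ^ 2 + D.e₂ ^ 2 := by
  classical
  have h := inner_eq D (B := indFun C (θ : C → ℂ)) (H12.indFun_isClassFunction C _)
    (indFun_over C θ)
  rw [H13.classInner_indFun_indFun C θ.2 θ.2, (inner_indFun D).1, (inner_indFun D).2] at h
  have hcard : Nat.card {x : T // H13.twist C x (θ : C → ℂ) = θ} = Nat.card T :=
    Nat.card_congr (Equiv.subtypeUnivEquiv D.inv)
  rw [hcard, ← C.card_mul_index, Nat.cast_mul, ← mul_assoc, inv_mul_cancel₀ H12.card_ne_zero',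
    one_mul] at h
  simp only [Complex.conj_natCast] at h
  rw [sq, sq]
  exact_mod_cast h

/-- Orthogonality of two functions over `θ` with disjoint supports. -/
theorem orth_of_disjoint {A B : T → ℂ} (h : ∀ w, A w = 0 ∨ B w = 0) : classInner A B = 0 := by
  rw [H12.classInner_def, Finset.sum_eq_zero, mul_zero]
  intro w _
  rcases h w with h' | h' <;> simp [h']

theorem RegFun.eq_zero_of_mem {x : T} {r : ℕ} {F : T → ℂ} (hF : RegFun C θ x r F) (hx : x ∉ C)
    {w : T} (hw : w ∈ C) : F w = 0 := by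
  by_contra h
  obtain ⟨t, ht⟩ := hF.supp w h
  apply hx
  have := mul_mem (inv_mem ht) (hCn.conj_mem w hw t)
  simpa [mul_assoc] using this

theorem RegFun.orth (D : Two C θ) {x : T} {r : ℕ} {F : T → ℂ} (hF : RegFun C θ x r F)
    (hx : x ∉ C) :
    (D.e₁ : ℂ) * classInner F (D.χ₁ : T → ℂ) + (D.e₂ : ℂ) * classInner F (D.χ₂ : T → ℂ) = 0 := by
  have h := inner_eq D (B := indFun C (θ : C → ℂ)) hF.cls hF.above
  rw [orth_of_disjoint, (inner_indFun D).1, (inner_indFun D).2] at h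
  · simp only [Complex.conj_natCast] at h
    linear_combination -h
  · intro w
    by_cases hw : w ∈ C
    · exact Or.inl (hF.eq_zero_of_mem hx hw)
    · exact Or.inr (H13.indFun_normal_notMem C _ hw)

/-- Two regular cosets outside `C` are conjugate. -/
theorem conj_of_regFun (D : Two C θ) {x y : T} {r r' : ℕ} {F G : T → ℂ} (hF : RegFun C θ x r F)
    (hG : RegFun C θ y r' G) (hx : x ∉ C) (hy : y ∉ C) : ∃ t, t * x * t⁻¹ * y⁻¹ ∈ C := by
  classical
  by_contra hne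
  push Not at hne
  have h0 : classInner F G = 0 := orth_of_disjoint fun w => by
    by_contra h
    push Not at h
    obtain ⟨a, ha⟩ := hF.supp w h.1
    obtain ⟨b, hb⟩ := hG.supp w h.2
    apply hne (b * a⁻¹)
    have h1 := hCn.conj_mem _ (inv_mem ha) (b * a⁻¹)
    have h2 : b * a⁻¹ * x * (b * a⁻¹)⁻¹ * y⁻¹ =
        (b * a⁻¹ * (a * w * a⁻¹ * x⁻¹)⁻¹ * (b * a⁻¹)⁻¹) * (b * w * b⁻¹ * y⁻¹) := by group
    rw [h2]
    exact mul_mem h1 hb
  rw [inner_eq D hF.cls hF.above] at h0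
  have eF := hF.orth D hx
  have eG := congrArg (starRingEnd ℂ) (hG.orth D hy)
  simp only [map_add, map_mul, Complex.conj_natCast, map_zero] at eG
  have nF := inner_eq D (B := F) hF.cls hF.above
  have nG := inner_eq D (B := G) hG.cls hG.above
  rw [hF.norm] at nF
  rw [hG.norm] at nG
  have eG' := hG.orth D hy
  set a₁ := classInner F (D.χ₁ : T → ℂ)
  set a₂ := classInner F (D.χ₂ : T → ℂ)
  set b₁ := classInner G (D.χ₁ : T → ℂ)
  set b₂ := classInner G (D.χ₂ : T → ℂ)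
  have hkey : ((D.e₁ : ℂ) ^ 2 + (D.e₂ : ℂ) ^ 2) * (a₂ * conj b₂) = 0 := by
    linear_combination (D.e₁ : ℂ) ^ 2 * h0 - (D.e₁ : ℂ) * conj b₁ * eF + (D.e₂ : ℂ) * a₂ * eG
  have hpos : ((D.e₁ : ℂ) ^ 2 + (D.e₂ : ℂ) ^ 2) ≠ 0 := by
    have := D.pos₁
    exact_mod_cast (by positivity : D.e₁ ^ 2 + D.e₂ ^ 2 ≠ 0)
  have he₁ : (D.e₁ : ℂ) ≠ 0 := Nat.cast_ne_zero.2 D.pos₁.ne'
  rcases mul_eq_zero.1 ((mul_eq_zero.1 hkey).resolve_left hpos) with h | h
  · rw [h, mul_zero, add_zero, mul_eq_zero] at eF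
    rw [h, eF.resolve_left he₁] at nF
    simp at nF
    exact hF.rpos.ne' nF
  · rw [map_eq_zero] at h
    rw [h, mul_zero, add_zero, mul_eq_zero] at eG'
    rw [h, eG'.resolve_left he₁] at nG
    simp at nG
    exact hG.rpos.ne' nG

/-- A regular coset with centraliser of odd prime order `r`. -/
theorem prime_ratio (D : Two C θ) {x : T} {r : ℕ} [hr : Fact r.Prime] {F : T → ℂ}
    (hF : RegFun C θ x r F) (hx : x ∉ C) :
    ∃ g a b : ℕ, C.index = g ^ 2 * r ∧ r = a ^ 2 + b ^ 2 ∧ 0 < a ∧ 0 < b ∧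
      ∀ f : ℕ, f ∣ D.e₁ → f ∣ D.e₂ → f ∣ g := by
  obtain ⟨g, a, b, hg, hab, ha, hb⟩ :=
    Nat.exists_coprime' (Nat.gcd_pos_of_pos_left D.e₂ D.pos₁)
  have ha0 : 0 < a := Nat.pos_of_ne_zero fun h => by simp [h] at ha; exact D.pos₁.ne' ha
  have hb0 : 0 < b := Nat.pos_of_ne_zero fun h => by simp [h] at hb; exact D.pos₂.ne' hb
  have hdiv : ∀ f : ℕ, f ∣ D.e₁ → f ∣ D.e₂ → f ∣ g := by
    intro f h1 h2
    have h3 := Nat.dvd_gcd h1 h2
    rwa [ha, hb, Nat.gcd_mul_right, Nat.Coprime.gcd_eq_one hab, one_mul] at h3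
  set u₁ := (r : ℂ) * classInner F (D.χ₁ : T → ℂ) with hu₁
  set u₂ := (r : ℂ) * classInner F (D.χ₂ : T → ℂ) with hu₂
  have horth : (D.e₁ : ℂ) * u₁ + (D.e₂ : ℂ) * u₂ = 0 := by
    rw [hu₁, hu₂]; linear_combination (r : ℂ) * hF.orth D hx
  have hnorm : u₁ * conj u₁ + u₂ * conj u₂ = (r : ℂ) := by
    have h := inner_eq D (B := F) hF.cls hF.above
    rw [hF.norm] at h
    have hr0 : (r : ℂ) ≠ 0 := Nat.cast_ne_zero.2 hr.out.ne_zero
    rw [hu₁, hu₂, map_mul, map_mul, Complex.conj_natCast]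
    field_simp at h
    linear_combination (-(r : ℂ)) * h
  have hval : u₂ * conj u₂ = (r : ℂ) * (a : ℂ) ^ 2 / ((a : ℂ) ^ 2 + (b : ℂ) ^ 2) := by
    have hg0 : (g : ℂ) ≠ 0 := Nat.cast_ne_zero.2 fun h => by simp [h] at ha; exact D.pos₁.ne' ha
    have hsum : ((a : ℂ) ^ 2 + (b : ℂ) ^ 2) ≠ 0 := by
      exact_mod_cast (by positivity : a ^ 2 + b ^ 2 ≠ 0)
    have h1 : (a : ℂ) * u₁ + (b : ℂ) * u₂ = 0 := by
      rw [ha, hb] at horth
      push_cast at horth
      refine mul_right_cancel₀ hg0 ?_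
      linear_combination horth
    have h2 := congrArg (starRingEnd ℂ) h1
    simp only [map_add, map_mul, Complex.conj_natCast, map_zero] at h2
    rw [eq_div_iff hsum]
    linear_combination (a : ℂ) ^ 2 * hnorm - (a : ℂ) * conj u₁ * h1 + (b : ℂ) * u₂ * h2
  have hint : IsIntegral ℤ (u₂ * conj u₂) :=
    (hF.integ _).mul (IsIntegral.map (Complex.conjAe.toAlgHom.restrictScalars ℤ) (hF.integ _))
  rw [hval] at hint
  have hdvd : a ^ 2 + b ^ 2 ∣ r * a ^ 2 := by
    refine H12.nat_dvd_of_isIntegral_div (by positivity) ?_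
    push_cast
    exact hint
  have hcop : Nat.Coprime (a ^ 2 + b ^ 2) (a ^ 2) := by
    rw [Nat.coprime_comm, Nat.coprime_self_add_right]
    exact Nat.Coprime.pow 2 2 hab
  have hr' : a ^ 2 + b ^ 2 = r := by
    rcases (Nat.dvd_prime hr.out).1 (hcop.dvd_of_dvd_mul_right hdvd) with h | h
    · have : 1 ≤ a ^ 2 := Nat.one_le_pow _ _ ha0
      have : 1 ≤ b ^ 2 := Nat.one_le_pow _ _ hb0
      omega
    · exact h
  refine ⟨g, a, b, ?_, hr'.symm, ha0, hb0, hdiv⟩
  rw [index_eq D, ha, hb, ← hr']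
  ring

end H23.Three
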